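import Mathlib

/-!
# Common eigenspaces
-/

set_option autoImplicit false
set_option linter.style.haveILetI false
set_option linter.unusedSectionVars false

open scoped commutatorElement

namespace Cfsg.Agent.Bender.ModBound

universe u v w

section Indep

variable {K : Type w} [Field K] {W : Type v} [AddCommGroup W] [Module K W]

/-- A family of vectors with pairwise distinct systems of eigenvalues has only the trivial relation. -/
theorem eq_zero_of_sum {ι α : Type*} [Fintype ι] (T : α → W →ₗ[K] W) (χ : ι → α → K)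
    (hχ : Function.Injective χ) (u : ι → W) (hu : ∀ i a, T a (u i) = χ i a • u i) (hsum : ∑ i, u i = 0) :
    ∀ i, u i = 0 := by
  classical
  suffices h : ∀ (s : Finset ι) (u : ι → W), (∀ i a, T a (u i) = χ i a • u i) → ∑ i ∈ s, u i = 0 →
      ∀ i ∈ s, u i = 0 from fun i => h Finset.univ u hu hsum i (Finset.mem_univ i)
  intro s
  induction s using Finset.induction with
  | empty => intro u _ _ i hi; simp at hi
  | @insert j s hj ih =>
    intro u hu hsum
    have hrest : ∀ a, ∀ i ∈ s, (χ i a - χ j a) • u i = 0 := by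
      intro a
      refine ih (fun i => (χ i a - χ j a) • u i) (fun i b => by rw [map_smul, hu, smul_comm]) ?_
      have h1 : ∑ i ∈ insert j s, (χ i a - χ j a) • u i = 0 := by
        simp only [sub_smul, Finset.sum_sub_distrib, ← hu, ← Finset.smul_sum, ← map_sum, hsum, map_zero,
          smul_zero, sub_zero]
      rwa [Finset.sum_insert hj, sub_self, zero_smul, zero_add] at h1
    have hs : ∀ i ∈ s, u i = 0 := fun i hi => by
      by_contra h
      refine hj ((hχ (funext fun a => ?_) : i = j) ▸ hi)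
      exact sub_eq_zero.1 ((smul_eq_zero.1 (hrest a i hi)).resolve_right h)
    rw [Finset.sum_insert hj, Finset.sum_eq_zero hs, add_zero] at hsum
    intro i hi
    rcases Finset.mem_insert.1 hi with rfl | hi
    · exact hsum
    · exact hs i hi

theorem linearIndependent_of_distinct {ι α : Type*} [Fintype ι] (T : α → W →ₗ[K] W) (χ : ι → α → K)
    (hχ : Function.Injective χ) (v : ι → W) (hv0 : ∀ i, v i ≠ 0) (hv : ∀ i a, T a (v i) = χ i a • v i) :
    LinearIndependent K v := by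
  rw [Fintype.linearIndependent_iff]
  intro g hg i
  exact (smul_eq_zero.1 (eq_zero_of_sum T χ hχ (fun i => g i • v i)
    (fun i a => by rw [map_smul, hv, smul_comm]) hg i)).resolve_right (hv0 i)

/-- Spaces with pairwise distinct systems of eigenvalues have dimensions adding up to at most the dimension. -/
theorem sum_finrank_le [FiniteDimensional K W] {ι α : Type*} [Fintype ι] (T : α → W →ₗ[K] W) (χ : ι → α → K)
    (hχ : Function.Injective χ) (E : ι → Submodule K W) (hE : ∀ i, ∀ v ∈ E i, ∀ a, T a v = χ i a • v) :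
    ∑ i, Module.finrank K (E i) ≤ Module.finrank K W := by
  classical
  let f : ((i : ι) → E i) →ₗ[K] W :=
    { toFun := fun x => ∑ i, (x i : W)
      map_add' := fun x y => by simp [Finset.sum_add_distrib]
      map_smul' := fun c x => by simp [Finset.smul_sum] }
  have hf : Function.Injective f := by
    rw [← LinearMap.ker_eq_bot, Submodule.eq_bot_iff]
    intro x hx
    funext i
    exact Subtype.ext (eq_zero_of_sum T χ hχ (fun i => (x i : W)) (fun i a => hE i _ (x i).2 a) hx i)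
  rw [← Module.finrank_pi_fintype]
  exact LinearMap.finrank_le_finrank_of_injective hf

end Indep

variable {G : Type u} [Group G] {K : Type w} [Field K] {W : Type v} [AddCommGroup W] [Module K W]
variable (σ : Representation K G W)

/-- The common eigenspace of a subgroup. -/
def eig (A : Subgroup G) (χ : G → K) : Submodule K W where
  carrier := {v | ∀ a ∈ A, σ a v = χ a • v}
  add_mem' := fun {x y} hx hy a ha => by rw [map_add, hx a ha, hy a ha, smul_add]
  zero_mem' := fun a _ => by rw [map_zero, smul_zero]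
  smul_mem' := fun c x hx a ha => by rw [map_smul, hx a ha, smul_comm]

theorem mem_eig {A : Subgroup G} {χ : G → K} {v : W} : v ∈ eig σ A χ ↔ ∀ a ∈ A, σ a v = χ a • v := Iff.rfl

theorem σ_mul (a b : G) (v : W) : σ (a * b) v = σ a (σ b v) := by rw [map_mul, Module.End.mul_apply]

theorem σ_one (v : W) : σ 1 v = v := by rw [map_one, Module.End.one_apply]

theorem σ_inv (g : G) (v : W) : σ g⁻¹ (σ g v) = v := by rw [← σ_mul, inv_mul_cancel, σ_one]

theorem σ_inv' (g : G) (v : W) : σ g (σ g⁻¹ v) = v := by rw [← σ_mul, mul_inv_cancel, σ_one]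

theorem σ_ne_zero (g : G) {v : W} (hv : v ≠ 0) : σ g v ≠ 0 := fun e =>
  hv (by rw [← σ_inv σ g v, e, map_zero])

variable {A : Subgroup G} {χ : G → K}

theorem chi_mul (h : eig σ A χ ≠ ⊥) {a b : G} (ha : a ∈ A) (hb : b ∈ A) : χ (a * b) = χ a * χ b := by
  obtain ⟨v, hv, hv0⟩ := (Submodule.ne_bot_iff _).1 h
  have h1 := hv (a * b) (mul_mem ha hb)
  rw [σ_mul, hv b hb, map_smul, hv a ha, smul_smul] at h1
  rw [mul_comm (χ a)]
  exact (smul_left_injective K hv0 h1).symm

theorem chi_one (h : eig σ A χ ≠ ⊥) : χ 1 = 1 := by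
  obtain ⟨v, hv, hv0⟩ := (Submodule.ne_bot_iff _).1 h
  have h1 := hv 1 (one_mem A)
  rw [σ_one] at h1
  exact (smul_left_injective K hv0 (show (1 : K) • v = χ 1 • v by rw [one_smul]; exact h1)).symm

theorem chi_ne_zero (h : eig σ A χ ≠ ⊥) {a : G} (ha : a ∈ A) : χ a ≠ 0 := fun e => by
  have h1 := chi_mul σ h ha (inv_mem ha)
  rw [mul_inv_cancel, chi_one σ h, e, zero_mul] at h1
  exact one_ne_zero h1

theorem chi_inv (h : eig σ A χ ≠ ⊥) {a : G} (ha : a ∈ A) : χ a⁻¹ * χ a = 1 := by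
  rw [← chi_mul σ h (inv_mem ha) ha, inv_mul_cancel, chi_one σ h]

/-- A conjugating element maps eigenspaces to eigenspaces. -/
theorem map_eig {s : G} (hs : ∀ a ∈ A, s⁻¹ * a * s ∈ A) {v : W} (hv : v ∈ eig σ A χ) :
    σ s v ∈ eig σ A (fun a => χ (s⁻¹ * a * s)) := fun a ha => by
  show σ a (σ s v) = χ (s⁻¹ * a * s) • σ s v
  rw [← σ_mul, show a * s = s * (s⁻¹ * a * s) by group, σ_mul, hv _ (hs a ha), map_smul]

theorem finrank_le_map_eig [FiniteDimensional K W] {s : G} (hs : ∀ a ∈ A, s⁻¹ * a * s ∈ A) :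
    Module.finrank K (eig σ A χ) ≤ Module.finrank K (eig σ A (fun a => χ (s⁻¹ * a * s))) :=
  LinearMap.finrank_le_finrank_of_injective
    (f := (σ s).restrict fun v hv => map_eig σ hs hv) fun x y e => Subtype.ext (by
      have h := congrArg (fun z : eig σ A (fun a => χ (s⁻¹ * a * s)) => σ s⁻¹ (z : W)) e
      simpa [σ_inv] using h)

/-- An element of odd order with only the eigenvalue one acts trivially in characteristic two. -/
theorem exists_eigen_ne_one [CharP K 2] [IsAlgClosed K] [FiniteDimensional K W] {c : G}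
    (ho : Odd (orderOf c)) (hc : σ c ≠ 1) : ∃ ζ : K, ζ ≠ 1 ∧ Module.End.HasEigenvalue (σ c) ζ := by
  by_contra h
  push Not at h
  have htop : Module.End.maxGenEigenspace (σ c) 1 = ⊤ := by
    rw [← Module.End.iSup_maxGenEigenspace_eq_top (σ c)]
    refine le_antisymm (le_iSup (fun μ => Module.End.maxGenEigenspace (σ c) μ) 1) (iSup_le fun μ => ?_)
    by_cases hμ : μ = 1
    · rw [hμ]
    · intro x hx
      obtain ⟨k, hk⟩ := (Module.End.mem_maxGenEigenspace _ _ _).1 hx
      by_cases hx0 : x = 0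
      · rw [hx0]; exact Submodule.zero_mem _
      · refine absurd ?_ (h μ hμ)
        refine Module.End.hasEigenvalue_of_hasGenEigenvalue (k := k) ?_
        refine (Submodule.ne_bot_iff _).2 ⟨x, ?_, hx0⟩
        exact Module.End.mem_genEigenspace_nat.2 hk
  have hnil : IsNilpotent (σ c - 1) := by
    refine ⟨Module.End.maxGenEigenspaceIndex (σ c) 1, LinearMap.ext fun x => ?_⟩
    have hx : x ∈ Module.End.maxGenEigenspace (σ c) 1 := htop ▸ Submodule.mem_top
    rw [Module.End.maxGenEigenspace_eq, Module.End.mem_genEigenspace_nat, one_smul, LinearMap.mem_ker] at hx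
    exact hx
  obtain ⟨n, hn⟩ := hnil
  have h2 : (σ c - 1) ^ 2 ^ n = 0 := pow_eq_zero_of_le (Nat.lt_two_pow_self).le hn
  haveI : Nontrivial (Module.End K W) := ⟨σ c, 1, hc⟩
  haveI : CharP (Module.End K W) 2 := charP_of_injective_algebraMap (FaithfulSMul.algebraMap_injective K _) 2
  haveI : Fact (Nat.Prime 2) := ⟨Nat.prime_two⟩
  rw [sub_pow_char_pow_of_commute (p := 2) (n := n) (h := Commute.one_right _), one_pow, sub_eq_zero, ← map_pow] at h2
  have hco : Nat.Coprime (2 ^ n) (orderOf c) := Nat.Coprime.pow_left n (Nat.coprime_two_left.2 ho)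
  obtain ⟨m, hm⟩ := exists_pow_eq_self_of_coprime hco
  refine hc ?_
  rw [← hm, map_pow, h2, one_pow]

/-- A commutative subgroup of odd order not acting trivially has a non-trivial system of eigenvalues. -/
theorem exists_eig [Finite G] [CharP K 2] [IsAlgClosed K] [FiniteDimensional K W] {A : Subgroup G}
    (hA : ∀ a ∈ A, ∀ b ∈ A, a * b = b * a) {c : G} (hcA : c ∈ A) (ho : Odd (orderOf c)) (hc : σ c ≠ 1) :
    ∃ χ : G → K, eig σ A χ ≠ ⊥ ∧ χ c ≠ 1 := by
  classical
  obtain ⟨ζ, hζ1, hζ⟩ := exists_eigen_ne_one σ ho hc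
  haveI := Fintype.ofFinite G
  have key : ∀ s : Finset G, (∀ a ∈ s, a ∈ A) → ∃ U : Submodule K W, U ≠ ⊥ ∧ (∀ v ∈ U, σ c v = ζ • v) ∧
      (∀ a ∈ A, ∀ v ∈ U, σ a v ∈ U) ∧ ∀ a ∈ s, ∃ μ : K, ∀ v ∈ U, σ a v = μ • v := by
    intro s
    induction s using Finset.induction with
    | empty =>
      intro _
      refine ⟨Module.End.eigenspace (σ c) ζ, hζ, fun v hv => Module.End.mem_eigenspace_iff.1 hv,
        fun a ha v hv => ?_, by simp⟩
      rw [Module.End.mem_eigenspace_iff] at hv ⊢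
      rw [← σ_mul, ← hA a ha c hcA, σ_mul, hv, map_smul]
    | @insert b s hb ih =>
      intro hs
      obtain ⟨U, hU, hUc, hUA, hUs⟩ := ih fun a ha => hs a (Finset.mem_insert_of_mem ha)
      have hbA := hs b (Finset.mem_insert_self b s)
      let f : Module.End K U := (σ b).restrict fun v hv => hUA b hbA v hv
      haveI : Nontrivial U := Submodule.nontrivial_iff_ne_bot.2 hU
      obtain ⟨μ, hμ⟩ := Module.End.exists_eigenvalue f
      refine ⟨U ⊓ Module.End.eigenspace (σ b) μ, ?_, fun v hv => hUc v hv.1, fun a ha v hv => ?_, fun a ha => ?_⟩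
      · obtain ⟨x, hx, hx0⟩ := hμ.exists_hasEigenvector
        rw [Module.End.mem_eigenspace_iff] at hx
        refine (Submodule.ne_bot_iff _).2 ⟨x, ⟨x.2, ?_⟩, fun e => hx0 (Subtype.ext e)⟩
        rw [SetLike.mem_coe, Module.End.mem_eigenspace_iff]
        exact congrArg Subtype.val hx
      · refine ⟨hUA a ha v hv.1, ?_⟩
        have hv2 := Module.End.mem_eigenspace_iff.1 hv.2
        rw [SetLike.mem_coe, Module.End.mem_eigenspace_iff, ← σ_mul, ← hA a ha b hbA, σ_mul, hv2, map_smul]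
      · rcases Finset.mem_insert.1 ha with rfl | ha
        · exact ⟨μ, fun v hv => Module.End.mem_eigenspace_iff.1 hv.2⟩
        · obtain ⟨μ', h'⟩ := hUs a ha
          exact ⟨μ', fun v hv => h' v hv.1⟩
  obtain ⟨U, hU, hUc, -, hUs⟩ := key (Finset.univ.filter (· ∈ A)) (by simp)
  choose μ hμ using fun a : A => hUs a (by simp)
  let χ : G → K := fun a => if h : a ∈ A then μ ⟨a, h⟩ else 1
  have hle : U ≤ eig σ A χ := fun v hv a ha => by
    rw [hμ ⟨a, ha⟩ v hv]
    simp [χ, ha]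
  refine ⟨χ, fun e => hU (le_bot_iff.1 (e ▸ hle)), fun e => hζ1 ?_⟩
  obtain ⟨v, hv, hv0⟩ := (Submodule.ne_bot_iff _).1 hU
  have h1 := hle hv c hcA
  rw [hUc v hv, e] at h1
  exact smul_left_injective K hv0 h1

/-- The kernel of the commutator pairing. -/
def radical (Q : Subgroup G) (A : Subgroup G) (χ : G → K) (hA : ∀ x ∈ Q, ∀ y ∈ Q, ⁅x, y⁆ ∈ A)
    (hAc : ∀ a ∈ A, ∀ x ∈ Q, a * x = x * a) (h : eig σ A χ ≠ ⊥) : Subgroup Q where
  carrier := {x | ∀ y ∈ Q, χ ⁅(x : G), y⁆ = 1}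
  one_mem' := fun y _ => by rw [Subgroup.coe_one, commutatorElement_one_left, chi_one σ h]
  mul_mem' := by
    intro x x' hx hx' y hy
    have e : ⁅(x : G) * x', y⁆ = ⁅(x' : G), y⁆ * ⁅(x : G), y⁆ := by
      have h1 : (x : G) * ⁅(x' : G), y⁆ * (x : G)⁻¹ = ⁅(x' : G), y⁆ := by
        rw [← hAc _ (hA _ x'.2 _ hy) _ x.2, mul_inv_cancel_right]
      calc ⁅(x : G) * x', y⁆ = (x : G) * ⁅(x' : G), y⁆ * (x : G)⁻¹ * ⁅(x : G), y⁆ := by
            simp only [commutatorElement_def]; group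
        _ = _ := by rw [h1]
    rw [Subgroup.coe_mul, e, chi_mul σ h (hA _ x'.2 _ hy) (hA _ x.2 _ hy), hx y hy, hx' y hy, one_mul]
  inv_mem' := by
    intro x hx y hy
    have e : ⁅(x : G), y⁆ * ⁅(x : G)⁻¹, y⁆ = 1 := by
      have h1 : (x : G) * ⁅(x : G)⁻¹, y⁆ * (x : G)⁻¹ = ⁅(x : G)⁻¹, y⁆ := by
        rw [← hAc _ (hA _ (inv_mem x.2) _ hy) _ x.2, mul_inv_cancel_right]
      have h2 : (x : G) * ⁅(x : G)⁻¹, y⁆ * (x : G)⁻¹ * ⁅(x : G), y⁆ = 1 := by
        simp only [commutatorElement_def]; group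
      rw [h1] at h2
      rw [hAc _ (hA _ x.2 _ hy) _ (show ⁅(x : G)⁻¹, y⁆ ∈ Q by
        rw [commutatorElement_def]
        exact mul_mem (mul_mem (mul_mem (inv_mem x.2) hy) (inv_mem (inv_mem x.2))) (inv_mem hy))]
      exact h2
    show χ ⁅((x⁻¹ : Q) : G), y⁆ = 1
    have h3 := congrArg χ e
    rw [chi_mul σ h (hA _ x.2 _ hy) (hA _ (inv_mem x.2) _ hy), chi_one σ h, hx y hy, one_mul] at h3
    rw [Subgroup.coe_inv]
    exact h3

theorem mem_radical {Q A : Subgroup G} {χ : G → K} {hA : ∀ x ∈ Q, ∀ y ∈ Q, ⁅x, y⁆ ∈ A}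
    {hAc : ∀ a ∈ A, ∀ x ∈ Q, a * x = x * a} {h : eig σ A χ ≠ ⊥} {x : Q} :
    x ∈ radical σ Q A χ hA hAc h ↔ ∀ y ∈ Q, χ ⁅(x : G), y⁆ = 1 := Iff.rfl

/-- The index of the radical is at most the square of the dimension of the eigenspace. -/
theorem index_radical_le [Finite G] [FiniteDimensional K W] {Q A : Subgroup G} {χ : G → K}
    (hA : ∀ x ∈ Q, ∀ y ∈ Q, ⁅x, y⁆ ∈ A)
    (hAc : ∀ a ∈ A, ∀ x ∈ Q, a * x = x * a) (h : eig σ A χ ≠ ⊥) :
    (radical σ Q A χ hA hAc h).index ≤ Module.finrank K (eig σ A χ) ^ 2 := by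
  classical
  set R := radical σ Q A χ hA hAc h with hR
  set E := eig σ A χ with hE
  haveI : Nontrivial E := Submodule.nontrivial_iff_ne_bot.2 h
  haveI := Fintype.ofFinite (Q ⧸ R)
  have hstab : ∀ x : Q, ∀ v ∈ E, σ (x : G) v ∈ E := fun x v hv a ha => by
    rw [← σ_mul, hAc a ha x x.2, σ_mul, hv a ha, map_smul]
  let T : Q → Module.End K E := fun x => (σ (x : G)).restrict (hstab x)
  have hT : ∀ x y : Q, ∀ v : E, ((T x (T y v) : E) : W) = σ ((x : G) * y) v := fun x y v => by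
    rw [σ_mul]; rfl
  have hcomm : ∀ x y : Q, T y * T x = χ ⁅(y : G), (x : G)⁆ • (T x * T y) := fun x y => by
    refine LinearMap.ext fun v => Subtype.ext ?_
    show ((T y (T x v) : E) : W) = χ ⁅(y : G), (x : G)⁆ • ((T x (T y v) : E) : W)
    rw [hT, hT, show (y : G) * x = ⁅(y : G), (x : G)⁆ * (x * y) by rw [commutatorElement_def]; group,
      σ_mul σ ⁅(y : G), (x : G)⁆]
    exact hstab (x * y) v v.2 _ (hA _ y.2 _ x.2)
  have hone : ∀ y : Q, T y * T y⁻¹ = 1 := fun y => LinearMap.ext fun v => Subtype.ext (by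
    show ((T y (T y⁻¹ v) : E) : W) = v
    rw [hT, Subgroup.coe_inv, mul_inv_cancel, σ_one])
  let L : Q → Module.End K E →ₗ[K] Module.End K E := fun y =>
    LinearMap.mulLeft K (T y) ∘ₗ LinearMap.mulRight K (T y⁻¹)
  let rep : Q ⧸ R → Q := fun q => q.out
  have hv : ∀ (q : Q ⧸ R) (y : Q), L y (T (rep q)) = χ ⁅(y : G), (rep q : G)⁆ • T (rep q) := fun q y => by
    show T y * (T (rep q) * T y⁻¹) = _
    rw [← mul_assoc, hcomm, smul_mul_assoc, mul_assoc, hone, mul_one]
  have h0 : ∀ q : Q ⧸ R, T (rep q) ≠ 0 := fun q e => by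
    obtain ⟨v, hv0⟩ := exists_ne (0 : E)
    exact σ_ne_zero σ (rep q : G) (fun e' => hv0 (Subtype.ext e'))
      (congrArg (fun f : Module.End K E => ((f v : E) : W)) e)
  have hinj : Function.Injective fun (q : Q ⧸ R) (y : Q) => χ ⁅(y : G), (rep q : G)⁆ := by
    intro q q' e
    rw [← QuotientGroup.out_eq' q, ← QuotientGroup.out_eq' q', QuotientGroup.eq]
    refine (mem_radical σ).2 fun y hy => ?_
    set a : G := (rep q : G)
    set b : G := (rep q' : G)
    have haQ : a ∈ Q := (rep q).2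
    have hbQ : b ∈ Q := (rep q').2
    have hab : χ ⁅y, a⁆ = χ ⁅y, b⁆ := congrFun e ⟨y, hy⟩
    -- `⁅a⁻¹ b, y⁆ = ⁅b, y⁆ ⁅a, y⁆⁻¹`
    have h1 : ∀ x ∈ Q, χ ⁅x, y⁆ * χ ⁅y, x⁆ = 1 := fun x hx => by
      rw [← chi_mul σ h (hA _ hx _ hy) (hA _ hy _ hx)]
      rw [show ⁅x, y⁆ * ⁅y, x⁆ = (1 : G) by simp only [commutatorElement_def]; group, chi_one σ h]
    have h2 : ⁅a⁻¹ * b, y⁆ * ⁅a, y⁆ = ⁅b, y⁆ := by
      have e1 : a * ⁅a⁻¹ * b, y⁆ * a⁻¹ = ⁅a⁻¹ * b, y⁆ := by
        rw [← hAc _ (hA _ (mul_mem (inv_mem haQ) hbQ) _ hy) _ haQ, mul_inv_cancel_right]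
      have e2 : ⁅b, y⁆ = a * ⁅a⁻¹ * b, y⁆ * a⁻¹ * ⁅a, y⁆ := by
        simp only [commutatorElement_def]; group
      rw [e2, e1]
    have h3 := congrArg χ h2
    rw [chi_mul σ h (hA _ (mul_mem (inv_mem haQ) hbQ) _ hy) (hA _ haQ _ hy)] at h3
    have h4 : χ ⁅a, y⁆ = χ ⁅b, y⁆ := by
      have := h1 a haQ
      rw [hab, ← h1 b hbQ] at this
      exact mul_right_cancel₀ (chi_ne_zero σ h (hA _ hy _ hbQ)) this
    rw [h4] at h3
    show χ ⁅a⁻¹ * b, y⁆ = 1
    exact mul_right_cancel₀ (chi_ne_zero σ h (hA _ hbQ _ hy)) (h3.trans (one_mul _).symm)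
  have hli := linearIndependent_of_distinct L (fun q y => χ ⁅(y : G), (rep q : G)⁆) hinj
    (fun q => T (rep q)) h0 hv
  have hcard := hli.fintype_card_le_finrank
  rw [Module.finrank_linearMap, ← pow_two] at hcard
  rwa [Subgroup.index_eq_card, Nat.card_eq_fintype_card]

end Cfsg.Agent.Bender.ModBound
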