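import Mathlib

/-!
# The images of `g - 1` in a representation over the field of two elements
-/

set_option autoImplicit false
set_option linter.style.haveILetI false
set_option linter.unusedSectionVars false

namespace Cfsg.Agent.Bender.ModBound

universe u v

variable {G : Type u} [Group G] {V : Type v} [AddCommGroup V] [Module (ZMod 2) V]
variable (ρ : Representation (ZMod 2) G V)

/-- The image of `g - 1`. -/
abbrev im (g : G) : Submodule (ZMod 2) V := LinearMap.range (ρ g - 1)

theorem add_self_eq (x : V) : x + x = 0 := by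
  rw [← two_smul (ZMod 2) x, show (2 : ZMod 2) = 0 by decide, zero_smul]

theorem neg_eq_self (x : V) : -x = x := neg_eq_of_add_eq_zero_right (add_self_eq x)

theorem act_mul (a b : G) (v : V) : ρ (a * b) v = ρ a (ρ b v) := by
  rw [map_mul, Module.End.mul_apply]

theorem act_one (v : V) : ρ 1 v = v := by rw [map_one, Module.End.one_apply]

theorem act_inv_cancel (g : G) (v : V) : ρ g (ρ g⁻¹ v) = v := by
  rw [← act_mul, mul_inv_cancel, act_one]

theorem inv_act_cancel (g : G) (v : V) : ρ g⁻¹ (ρ g v) = v := by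
  rw [← act_mul, inv_mul_cancel, act_one]

theorem act_sub_mem (g : G) (v : V) : ρ g v - v ∈ im ρ g := ⟨v, by simp⟩

theorem mem_im {g : G} {x : V} : x ∈ im ρ g ↔ ∃ v, ρ g v - v = x := by
  simp [im, LinearMap.mem_range]

/-- Images of `g - 1` for `g` in a generated subgroup lie in a bound for the generators. -/
theorem im_le_of_closure {T : Set G} {U : Submodule (ZMod 2) V} (h : ∀ s ∈ T, im ρ s ≤ U) {g : G}
    (hg : g ∈ Subgroup.closure T) : im ρ g ≤ U := by
  induction hg using Subgroup.closure_induction with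
  | mem x hx => exact h x hx
  | one =>
    intro x hx
    obtain ⟨v, rfl⟩ := (mem_im ρ).1 hx
    rw [act_one, sub_self]
    exact U.zero_mem
  | mul a b _ _ ha hb =>
    intro x hx
    obtain ⟨v, rfl⟩ := (mem_im ρ).1 hx
    have h1 := hb (act_sub_mem ρ b v)
    have h2 := ha (act_sub_mem ρ a (ρ b v))
    have h3 := U.add_mem h2 h1
    rwa [sub_add_sub_cancel, ← act_mul] at h3
  | inv a _ ha =>
    intro x hx
    obtain ⟨v, rfl⟩ := (mem_im ρ).1 hx
    have h1 := U.neg_mem (ha (act_sub_mem ρ a (ρ a⁻¹ v)))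
    rwa [act_inv_cancel, neg_sub] at h1

theorem im_pow_le (g : G) (i : ℕ) : im ρ (g ^ i) ≤ im ρ g :=
  im_le_of_closure ρ (T := {g}) (fun s hs => by rw [Set.mem_singleton_iff.1 hs])
    (pow_mem (Subgroup.subset_closure (Set.mem_singleton g)) i)

theorem im_zpow_le {g h : G} (hh : h ∈ Subgroup.zpowers g) : im ρ h ≤ im ρ g := by
  rw [Subgroup.zpowers_eq_closure] at hh
  exact im_le_of_closure ρ (fun s hs => by rw [Set.mem_singleton_iff.1 hs]) hh

/-- The image is invariant under an element inverting or centralising. -/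
theorem act_mem_im {g w : G} (hw : w * g * w⁻¹ ∈ Subgroup.zpowers g) {x : V} (hx : x ∈ im ρ g) :
    ρ w x ∈ im ρ g := by
  obtain ⟨v, rfl⟩ := (mem_im ρ).1 hx
  have h := im_zpow_le ρ hw (act_sub_mem ρ (w * g * w⁻¹) (ρ w v))
  rwa [← act_mul, inv_mul_cancel_right, act_mul, ← map_sub] at h

theorem im_ne_bot (hρ : Function.Injective ρ) {g : G} (hg : g ≠ 1) : im ρ g ≠ ⊥ := by
  intro h
  refine hg (hρ (LinearMap.ext fun v => ?_))
  have h1 := act_sub_mem ρ g v
  rw [h, Submodule.mem_bot, sub_eq_zero] at h1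
  rw [h1, map_one, Module.End.one_apply]

section Finite

variable [Module.Finite (ZMod 2) V]

theorem finrank_conj (g z : G) :
    Module.finrank (ZMod 2) (im ρ (g * z * g⁻¹)) = Module.finrank (ZMod 2) (im ρ z) := by
  let e : V ≃ₗ[ZMod 2] V :=
    { ρ g with
      invFun := ρ g⁻¹
      left_inv := inv_act_cancel ρ g
      right_inv := act_inv_cancel ρ g }
  have he : (im ρ z).map (e : V →ₗ[ZMod 2] V) = im ρ (g * z * g⁻¹) := by
    ext x
    constructor
    · rintro ⟨y, hy, rfl⟩
      obtain ⟨v, rfl⟩ := (mem_im ρ).1 hy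
      refine (mem_im ρ).2 ⟨ρ g v, ?_⟩
      show _ = ρ g (ρ z v - v)
      rw [map_sub, ← act_mul, inv_mul_cancel_right, act_mul]
    · intro hx
      obtain ⟨v, rfl⟩ := (mem_im ρ).1 hx
      refine ⟨_, act_sub_mem ρ z (ρ g⁻¹ v), ?_⟩
      show ρ g (ρ z (ρ g⁻¹ v) - ρ g⁻¹ v) = _
      rw [map_sub, act_inv_cancel, ← act_mul, ← act_mul, mul_assoc]
  rw [← he]
  exact LinearEquiv.finrank_map_eq e _

theorem two_mul_le {z : G} (hz : z * z = 1) :
    2 * Module.finrank (ZMod 2) (im ρ z) ≤ Module.finrank (ZMod 2) V := by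
  have hle : im ρ z ≤ LinearMap.ker (ρ z - 1) := by
    intro x hx
    obtain ⟨v, rfl⟩ := (mem_im ρ).1 hx
    rw [LinearMap.mem_ker, LinearMap.sub_apply, Module.End.one_apply, map_sub, ← act_mul, hz, act_one,
      ← neg_sub (ρ z v) v, sub_eq_add_neg, ← neg_add, add_self_eq, neg_zero]
  have h1 := Submodule.finrank_mono hle
  have h2 := (ρ z - 1).finrank_range_add_finrank_ker
  change Module.finrank (ZMod 2) (im ρ z) + _ = _ at h2
  omega

theorem finrank_im_le_of_closure {g : G} {T : Finset G} {n : ℕ}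
    (hT : ∀ s ∈ T, Module.finrank (ZMod 2) (im ρ s) ≤ n) (hg : g ∈ Subgroup.closure (T : Set G)) :
    Module.finrank (ZMod 2) (im ρ g) ≤ T.card * n := by
  classical
  have hsup : ∀ T : Finset G, (∀ s ∈ T, Module.finrank (ZMod 2) (im ρ s) ≤ n) →
      Module.finrank (ZMod 2) (T.sup (im ρ) : Submodule (ZMod 2) V) ≤ T.card * n := by
    intro T
    induction T using Finset.induction with
    | empty => simp
    | @insert a T ha ih =>
      intro h
      rw [Finset.sup_insert, Finset.card_insert_of_notMem ha, add_mul, one_mul]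
      have h1 := Submodule.finrank_add_le_finrank_add_finrank (im ρ a) (T.sup (im ρ))
      have h2 := ih fun s hs => h s (Finset.mem_insert_of_mem hs)
      have h3 := h a (Finset.mem_insert_self a T)
      omega
  exact (Submodule.finrank_mono
    (im_le_of_closure ρ (U := T.sup (im ρ)) (fun s hs => Finset.le_sup (f := im ρ) hs) hg)).trans (hsup T hT)

/-- An element of odd order fixes nothing in the image. -/
theorem eq_zero_of_fixed {y : G} (ho : Odd (orderOf y)) {x : V} (hx : x ∈ im ρ y) (hfix : ρ y x = x) :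
    x = 0 := by
  obtain ⟨v, hv⟩ := (mem_im ρ).1 hx
  have hv' : ρ y v = v + x := by rw [← hv, add_sub_cancel]
  have key : ∀ i : ℕ, ρ (y ^ i) v = v + i • x := by
    intro i
    induction i with
    | zero => rw [pow_zero, act_one, zero_smul, add_zero]
    | succ i ih => rw [pow_succ', act_mul, ih, map_add, map_nsmul, hfix, hv', add_assoc, succ_nsmul' x i]
  obtain ⟨m, hm⟩ := ho
  have h := key (orderOf y)
  rw [pow_orderOf_eq_one, act_one, left_eq_add, hm, succ_nsmul, mul_nsmul', two_nsmul, add_self_eq,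
    zero_add] at h
  exact h

/-- The order of an element of odd prime order divides the number of non-zero vectors of the image. -/
theorem dvd_sub_one {y : G} {r : ℕ} (hr : r.Prime) (hr2 : Odd r) (hy : orderOf y = r) :
    r ∣ 2 ^ Module.finrank (ZMod 2) (im ρ y) - 1 := by
  haveI := Fact.mk hr
  haveI : Finite V := Module.finite_of_finite (ZMod 2)
  let W := im ρ y
  have hstab : ∀ g : Subgroup.zpowers y, ∀ x ∈ W, ρ (g : G) x ∈ W := fun g x hx => by
    refine act_mem_im ρ ?_ hx
    obtain ⟨i, hi⟩ := g.2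
    have hc : (g : G) * y * (g : G)⁻¹ = y := by
      rw [← hi]
      show y ^ i * y * (y ^ i)⁻¹ = y
      group
    rw [hc]
    exact Subgroup.mem_zpowers y
  let X := {x : V // x ∈ W ∧ x ≠ 0}
  letI : MulAction (Subgroup.zpowers y) X :=
    { smul := fun g x => ⟨ρ (g : G) x.1, hstab g _ x.2.1, fun e => x.2.2 (by
        rw [← inv_act_cancel ρ (g : G) x.1, e, map_zero])⟩
      one_smul := fun x => Subtype.ext (act_one ρ x.1)
      mul_smul := fun a b x => Subtype.ext (act_mul ρ (a : G) b x.1) }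
  have hp : IsPGroup r (Subgroup.zpowers y) := IsPGroup.of_card (n := 1) (by rw [Nat.card_zpowers, hy, pow_one])
  have hfix : MulAction.fixedPoints (Subgroup.zpowers y) X = ∅ := by
    refine Set.eq_empty_iff_forall_notMem.2 fun x hx => x.2.2 ?_
    exact eq_zero_of_fixed ρ (hy ▸ hr2) x.2.1 (congrArg Subtype.val (hx ⟨y, Subgroup.mem_zpowers y⟩))
  have h := hp.card_modEq_card_fixedPoints X
  rw [hfix, Nat.card_coe_set_eq, Set.ncard_empty, Nat.modEq_zero_iff_dvd] at h
  have hX : Nat.card X = 2 ^ Module.finrank (ZMod 2) W - 1 := by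
    have h1 : Nat.card X = ((W : Set V) \ {0}).ncard := rfl
    rw [h1, Set.ncard_sdiff_singleton_of_mem W.zero_mem, ← Nat.card_coe_set_eq]
    congr 1
    rw [SetLike.coe_sort_coe, Module.natCard_eq_pow_finrank (K := ZMod 2) (V := W), Nat.card_zmod]
  rwa [hX] at h

theorem le_finrank (hρ : Function.Injective ρ) {y : G} {r D : ℕ} (hr : r.Prime) (hr2 : Odd r)
    (hy : orderOf y = r) (hD : ∀ k : ℕ, 0 < k → k < D → ¬ r ∣ 2 ^ k - 1) :
    D ≤ Module.finrank (ZMod 2) (im ρ y) := by
  by_contra h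
  have hy1 : y ≠ 1 := fun e => hr.ne_one (by rw [← hy, e, orderOf_one])
  have hpos : 0 < Module.finrank (ZMod 2) (im ρ y) :=
    Nat.pos_of_ne_zero fun h0 => im_ne_bot ρ hρ hy1 (Submodule.finrank_eq_zero.1 h0)
  exact hD _ hpos (by omega) (dvd_sub_one ρ hr hr2 hy)

/-- An inverted element of order seven moves a space of dimension at least five. -/
theorem five_le_finrank (hρ : Function.Injective ρ) {y w : G} (hy : orderOf y = 7) (hw : w * w = 1)
    (hinv : w * y * w⁻¹ = y⁻¹) : 5 ≤ Module.finrank (ZMod 2) (im ρ y) := by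
  haveI : Fact (Nat.Prime 7) := ⟨by norm_num⟩
  haveI : Finite V := Module.finite_of_finite (ZMod 2)
  by_contra hlt
  have hy1 : y ≠ 1 := fun e => by rw [e, orderOf_one] at hy; omega
  have hne := im_ne_bot ρ hρ hy1
  have hd : 7 ∣ 2 ^ Module.finrank (ZMod 2) (im ρ y) - 1 := dvd_sub_one ρ (by norm_num) (by decide) hy
  have h3 : Module.finrank (ZMod 2) (im ρ y) = 3 := by
    have hpos : 0 < Module.finrank (ZMod 2) (im ρ y) :=
      Nat.pos_of_ne_zero fun h0 => hne (Submodule.finrank_eq_zero.1 h0)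
    revert hd
    interval_cases (Module.finrank (ZMod 2) (im ρ y)) <;> norm_num
  -- a vector fixed by `w`
  obtain ⟨x, hxW, hx0, hwx⟩ : ∃ x ∈ im ρ y, x ≠ 0 ∧ ρ w x = x := by
    obtain ⟨x, hx, hx0⟩ := (Submodule.ne_bot_iff _).1 hne
    have hwW : ρ w x ∈ im ρ y := act_mem_im ρ (by rw [hinv]; exact inv_mem (Subgroup.mem_zpowers y)) hx
    by_cases h : x + ρ w x = 0
    · exact ⟨x, hx, hx0, ((eq_neg_of_add_eq_zero_left h).trans (neg_eq_self _)).symm⟩
    · refine ⟨_, add_mem hx hwW, h, ?_⟩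
      rw [map_add, ← act_mul, hw, act_one, add_comm]
  have ho : Odd (orderOf y) := by rw [hy]; decide
  have hpW : ∀ i : ℕ, ρ (y ^ i) x ∈ im ρ y := fun i =>
    act_mem_im ρ (by
      rw [show y ^ i * y * (y ^ i)⁻¹ = y by group]
      exact Subgroup.mem_zpowers y) hxW
  have hinj : Function.Injective fun i : Fin 7 => ρ (y ^ (i : ℕ)) x := by
    intro i j e
    by_contra hij
    have key : ∀ a b : ℕ, a < b → b < 7 → ρ (y ^ a) x ≠ ρ (y ^ b) x := by
      intro a b hab hb7 e
      have h1 : ρ (y ^ (b - a)) x = x := by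
        have h2 := congrArg (ρ (y ^ a)⁻¹) e
        rw [inv_act_cancel, ← act_mul, show (y ^ a)⁻¹ * y ^ b = y ^ (b - a) by
          rw [pow_sub y hab.le, ← Commute.inv_left]; exact Commute.pow_pow_self y a b] at h2
        exact h2.symm
      -- then `y` fixes `x`
      have hco : Nat.Coprime (b - a) 7 :=
        ((Nat.Prime.coprime_iff_not_dvd (by norm_num)).2 fun hd => by
          have := Nat.le_of_dvd (by omega) hd
          omega).symm
      obtain ⟨m, hm⟩ := exists_pow_eq_self_of_coprime (x := y) (n := b - a) (hy ▸ hco)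
      have hfixed : ρ y x = x := by
        rw [← hm]
        clear hm
        induction m with
        | zero => rw [pow_zero, act_one]
        | succ m ih => rw [pow_succ, act_mul, h1, ih]
      exact hx0 (eq_zero_of_fixed ρ ho hxW hfixed)
    rcases Nat.lt_or_gt_of_ne (fun h => hij (Fin.ext h)) with h | h
    · exact key _ _ h j.2 e
    · exact key _ _ h i.2 e.symm
  -- the orbit is everything but zero
  have horb : ∀ z ∈ im ρ y, z ≠ 0 → ∃ i : Fin 7, ρ (y ^ (i : ℕ)) x = z := by
    classical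
    haveI := Fintype.ofFinite V
    intro z hz hz0
    have hcard : ((im ρ y : Set V) \ {0}).ncard = 7 := by
      rw [Set.ncard_sdiff_singleton_of_mem (im ρ y).zero_mem, ← Nat.card_coe_set_eq, SetLike.coe_sort_coe,
        Module.natCard_eq_pow_finrank (K := ZMod 2) (V := im ρ y), Nat.card_zmod, h3]
      norm_num
    have hrange : Set.range (fun i : Fin 7 => ρ (y ^ (i : ℕ)) x) = (im ρ y : Set V) \ {0} := by
      refine Set.eq_of_subset_of_ncard_le ?_ (by rw [hcard, Set.ncard_range_of_injective hinj, Nat.card_fin])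
      rintro _ ⟨i, rfl⟩
      refine ⟨hpW i, fun e => hx0 ?_⟩
      have e' : ρ (y ^ (i : ℕ)) x = 0 := e
      rw [← inv_act_cancel ρ (y ^ (i : ℕ)) x, e', map_zero]
    exact Set.mem_range.1 (hrange.ge ⟨hz, hz0⟩)
  have hsum0 : x + ρ y x ≠ 0 := fun e => hx0 (eq_zero_of_fixed ρ ho hxW
    ((eq_neg_of_add_eq_zero_left e).trans (neg_eq_self _)).symm)
  have hyx : ρ y x ∈ im ρ y := by simpa using hpW 1
  obtain ⟨⟨j, hj⟩, e⟩ := horb _ (add_mem hxW hyx) hsum0
  have e : ρ (y ^ j) x = x + ρ y x := e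
  -- reflect
  have hwy : ∀ i : ℕ, ρ w (ρ (y ^ i) x) = ρ (y ^ i)⁻¹ x := fun i => by
    rw [← act_mul, show w * y ^ i = (y ^ i)⁻¹ * w by
      rw [← mul_inv_eq_iff_eq_mul, ← conj_pow, hinv, inv_pow], act_mul, hwx]
  have e2 := congrArg (ρ w) e
  rw [map_add, hwy, hwx, show ρ w (ρ y x) = ρ y⁻¹ x by simpa using hwy 1] at e2
  have e3 := congrArg (ρ y) e2
  rw [map_add, act_inv_cancel, add_comm, ← e, ← act_mul] at e3
  have e4 := congrArg (ρ (y ^ j)) e3
  rw [← act_mul, ← act_mul, show y ^ j * (y * (y ^ j)⁻¹) = y by group] at e4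
  have h7 : ∀ i : ℕ, ρ (y ^ i) x = ρ (y ^ (i % 7)) x := fun i => by
    rw [← hy, pow_mod_orderOf]
  rw [show ρ y x = ρ (y ^ 1) x by rw [pow_one], ← pow_add, h7 (j + j)] at e4
  have hj4 : j = 4 := by
    have := congrArg Fin.val (hinj (a₁ := ⟨1, by norm_num⟩) (a₂ := ⟨(j + j) % 7, Nat.mod_lt _ (by norm_num)⟩) e4)
    simp only at this
    omega
  subst hj4
  have e5 := congrArg (ρ (y ^ 4)) e
  rw [map_add, ← act_mul, ← act_mul, e, ← pow_add, h7, ← pow_succ] at e5
  -- hence `y ^ 5` fixes `x`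
  have e6 : ρ (y ^ 5) x = ρ (y ^ 0) x := by
    rw [pow_zero, act_one]
    rw [show (4 + 4) % 7 = 1 from rfl, pow_one, show 4 + 1 = 5 from rfl] at e5
    have e7 : x + ρ (y ^ 5) x = 0 := by
      rw [add_comm x, add_assoc, left_eq_add] at e5
      exact e5
    exact ((eq_neg_of_add_eq_zero_left e7).trans (neg_eq_self _)).symm
  have := congrArg Fin.val (hinj (a₁ := ⟨5, by norm_num⟩) (a₂ := ⟨0, by norm_num⟩) e6)
  simp at this

end Finite

end Cfsg.Agent.Bender.ModBound
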