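import Cfsg.Agent.Lib.Bender.ModuleBound.Eigen
import Cfsg.Agent.Lib.Solv.Coprime
import Cfsg.Agent.Lib.Bender.AbelianCases

/-!
# A `2`-group with one involution acting on a group of odd order in a module over the field of two elements
-/

set_option autoImplicit false
set_option linter.style.haveILetI false
set_option linter.unusedSectionVars false

open scoped commutatorElement

namespace Cfsg.Agent.Bender.ModBound

universe u v

variable {G : Type u} [Group G] [Finite G]

/-- A non-trivial minimal invariant group of odd order moved by the involution. -/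
theorem exists_minimal {S O : Subgroup G} (hS : IsPGroup 2 S) {z : G} (hzS : z ∈ S)
    (hO : Odd (Nat.card O)) (hSO : S ≤ Subgroup.normalizer (O : Set G))
    (hmove : ∃ y ∈ O, z * y * z⁻¹ ≠ y) :
    ∃ (q : ℕ) (Q : Subgroup G), q.Prime ∧ IsPGroup q Q ∧ Q ≤ O ∧ S ≤ Subgroup.normalizer (Q : Set G) ∧
      (∃ y ∈ Q, z * y * z⁻¹ ≠ y) ∧
      ∀ L < Q, S ≤ Subgroup.normalizer (L : Set G) → ∀ y ∈ L, z * y * z⁻¹ = y := by
  obtain ⟨y₀, hy₀, hne⟩ := hmove
  -- some invariant Sylow subgroup is moved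
  have hex : ∃ (q : ℕ) (Q : Subgroup G), q.Prime ∧ IsPGroup q Q ∧ Q ≤ O ∧
      S ≤ Subgroup.normalizer (Q : Set G) ∧ ∃ y ∈ Q, z * y * z⁻¹ ≠ y := by
    by_contra h
    push Not at h
    have hco : (Nat.card S).Coprime (Nat.card O) := by
      obtain ⟨n, hn⟩ := IsPGroup.iff_card.1 hS
      rw [hn]
      exact (Nat.coprime_two_left.2 hO).pow_left n
    have hsol : Group.IsSolvable O := AbelianSolvable.odd_solvable' hO
    set C := O ⊓ Subgroup.centralizer ({z} : Set G)
    have hdvd : Nat.card O ∣ Nat.card C := by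
      refine (Nat.dvd_iff_prime_pow_dvd_dvd _ _).2 fun p k hp hpk => ?_
      haveI := Fact.mk hp
      obtain ⟨P, hP, hPA⟩ := Solv.exists_invariant_sylow hSO hco (Or.inr hsol) p
      have hPsub : P ≤ O := hP.1
      have hPp : IsPGroup p P := hP.isPGroup
      have hPC : P ≤ C := fun x hx => ⟨hPsub hx, Subgroup.mem_centralizer_singleton_iff.2
        (mul_inv_eq_iff_eq_mul.1 (h p P hp hPp hPsub hPA x hx)).symm⟩
      refine dvd_trans ?_ (Subgroup.card_dvd_of_le hPC)
      obtain ⟨T, rfl⟩ := hP.exists_sylow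
      rw [Subgroup.card_map_of_injective O.subtype_injective]
      exact T.pow_dvd_card_of_pow_dvd_card hpk
    have hCO : C = O := Subgroup.eq_of_le_of_card_ge inf_le_left (Nat.le_of_dvd Nat.card_pos hdvd)
    exact hne (mul_inv_eq_iff_eq_mul.2 (Subgroup.mem_centralizer_singleton_iff.1 (hCO.ge hy₀).2).symm)
  obtain ⟨q, Q, hq, hQp, hQO, hQn, hQm⟩ := hex
  obtain ⟨M, ⟨hMQ, hMn, hMm⟩, hmin⟩ := Set.Finite.exists_minimal (Set.toFinite
    {M : Subgroup G | M ≤ Q ∧ S ≤ Subgroup.normalizer (M : Set G) ∧ ∃ y ∈ M, z * y * z⁻¹ ≠ y})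
    ⟨Q, le_rfl, hQn, hQm⟩
  refine ⟨q, M, hq, hQp.to_le hMQ, hMQ.trans hQO, hMn, hMm, fun L hL hLn y hy => ?_⟩
  by_contra h
  exact hL.not_ge (hmin ⟨hL.le.trans hMQ, hLn, y, hy, h⟩ hL.le)

/-- The structure of the minimal group. -/
theorem minimal_structure {S Q : Subgroup G} {z : G} (hzS : z ∈ S) (hzz : z * z = 1)
    (hzc : ∀ s ∈ S, s * z = z * s) {q : ℕ} (hq : q.Prime) (hQp : IsPGroup q Q) (hQodd : Odd (Nat.card Q))
    (hQn : S ≤ Subgroup.normalizer (Q : Set G)) (hmove : ∃ y ∈ Q, z * y * z⁻¹ ≠ y)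
    (hmin : ∀ L < Q, S ≤ Subgroup.normalizer (L : Set G) → ∀ y ∈ L, z * y * z⁻¹ = y) :
    S ≤ Subgroup.normalizer ((⁅Q, Q⁆ : Subgroup G) : Set G) ∧
      (∀ a ∈ ⁅Q, Q⁆, z * a * z⁻¹ = a) ∧
      (∀ a ∈ ⁅Q, Q⁆, ∀ x ∈ Q, a * x = x * a) ∧ ∀ x ∈ Q, z * x * z⁻¹ * x ∈ ⁅Q, Q⁆ := by
  haveI := Fact.mk hq
  set I : Set G := {x | x ∈ Q ∧ z * x * z⁻¹ = x⁻¹}
  set L := Subgroup.closure I with hLdef
  have hLQ : L ≤ Q := (Subgroup.closure_le Q).2 fun x hx => hx.1
  have hodd : ∀ x ∈ Q, x * x = 1 → x = 1 := fun x hx h => by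
    have h2 : orderOf x ∣ 2 := orderOf_dvd_of_pow_eq_one (by rw [pow_two]; exact h)
    rcases (Nat.dvd_prime Nat.prime_two).1 h2 with e | e
    · exact orderOf_eq_one_iff.1 e
    · exact absurd (e ▸ Subgroup.orderOf_dvd_natCard _ hx) hQodd.not_two_dvd_nat
  have hLn : S ≤ Subgroup.normalizer (L : Set G) := fun s hs => Subgroup.mem_normalizer_fintype (fun x hx => by
    have hle : L.map (MulAut.conj s).toMonoidHom ≤ L := by
      rw [hLdef, MonoidHom.map_closure, Subgroup.closure_le]
      rintro _ ⟨y, ⟨hy, hyi⟩, rfl⟩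
      refine Subgroup.subset_closure ⟨Solv.conj_mem_of_mem_normalizer (hQn hs) hy, ?_⟩
      show z * (s * y * s⁻¹) * z⁻¹ = (s * y * s⁻¹)⁻¹
      rw [show z * (s * y * s⁻¹) * z⁻¹ = z * s * y * (z * s)⁻¹ by group, ← hzc s hs,
        show s * z * y * (s * z)⁻¹ = s * (z * y * z⁻¹) * s⁻¹ by group, hyi]
      group
    exact hle ⟨x, hx, rfl⟩)
  have hLeq : L = Q := by
    by_contra h
    obtain ⟨y, hy, hne⟩ := hmove
    have hI : y⁻¹ * (z * y * z⁻¹) ∈ I := by
      refine ⟨mul_mem (inv_mem hy) (Solv.conj_mem_of_mem_normalizer (hQn hzS) hy), ?_⟩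
      have hzi : z⁻¹ = z := inv_eq_of_mul_eq_one_right hzz
      rw [show z * (y⁻¹ * (z * y * z⁻¹)) * z⁻¹ = z * y⁻¹ * z * y * (z * z)⁻¹ by group, hzz, inv_one, mul_one,
        show (y⁻¹ * (z * y * z⁻¹))⁻¹ = z * y⁻¹ * z⁻¹ * y by group, hzi]
    have hfix := hmin L (lt_of_le_of_ne hLQ h) hLn _ (Subgroup.subset_closure hI)
    have h1 := hodd _ hI.1 (mul_eq_one_iff_eq_inv.2 (hfix.symm.trans hI.2))
    exact hne (inv_mul_eq_one.1 h1).symm
  have hAQ : ⁅Q, Q⁆ ≤ Q := Subgroup.commutator_le.2 fun x hx y hy =>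
    mul_mem (mul_mem (mul_mem hx hy) (inv_mem hx)) (inv_mem hy)
  have hAn : S ≤ Subgroup.normalizer ((⁅Q, Q⁆ : Subgroup G) : Set G) := fun s hs =>
    Subgroup.mem_normalizer_fintype fun x hx => by
      have hle : (⁅Q, Q⁆ : Subgroup G).map (MulAut.conj s).toMonoidHom ≤ ⁅Q, Q⁆ := by
        rw [Subgroup.map_commutator]
        refine Subgroup.commutator_mono ?_ ?_ <;>
          exact fun _ ⟨y, hy, e⟩ => e ▸ Solv.conj_mem_of_mem_normalizer (hQn hs) hy
      exact hle ⟨x, hx, rfl⟩
  have hAlt : ⁅Q, Q⁆ < Q := by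
    refine lt_of_le_of_ne hAQ fun e => ?_
    haveI := hQp.isNilpotent
    haveI : Nontrivial Q := by
      obtain ⟨y, hy, hne⟩ := hmove
      exact ⟨⟨⟨y, hy⟩, 1, fun h => hne (by rw [show y = 1 from congrArg Subtype.val h]; group)⟩⟩
    refine (Group.IsSolvable.commutator_lt_top_of_nontrivial Q).ne (Subgroup.map_injective Q.subtype_injective ?_)
    rw [Subgroup.map_subtype_commutator, ← MonoidHom.range_eq_map, Subgroup.range_subtype, e]
  have hAz := hmin _ hAlt hAn
  have hAc : ∀ a ∈ ⁅Q, Q⁆, ∀ x ∈ Q, a * x = x * a := by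
    intro a ha x hx
    rw [← hLeq] at hx
    induction hx using Subgroup.closure_induction with
    | one => simp
    | mul u v _ _ hu hv => rw [← mul_assoc, hu, mul_assoc, hv, mul_assoc]
    | inv u _ hu => exact (Commute.inv_right (show Commute a u from hu)).eq
    | mem u hu =>
      obtain ⟨huQ, hui⟩ := hu
      have hconj : u * a * u⁻¹ ∈ ⁅Q, Q⁆ := by
        have h := mul_mem (Subgroup.commutator_mem_commutator huQ (hAQ ha)) ha
        rwa [commutatorElement_def, show u * a * u⁻¹ * a⁻¹ * a = u * a * u⁻¹ by group] at h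
      have h1 := hAz _ hconj
      rw [show z * (u * a * u⁻¹) * z⁻¹ = (z * u * z⁻¹) * (z * a * z⁻¹) * (z * u * z⁻¹)⁻¹ by group, hui,
        hAz a ha, inv_inv] at h1
      have h2 : Commute (u ^ 2) a := by
        show u ^ 2 * a = a * u ^ 2
        calc u ^ 2 * a = u * (u * a * u⁻¹) * u := by rw [pow_two]; group
          _ = u * (u⁻¹ * a * u) * u := by rw [← h1]
          _ = a * u ^ 2 := by rw [pow_two]; group
      obtain ⟨m, hm⟩ := hQodd.of_dvd_nat (Subgroup.orderOf_dvd_natCard _ huQ)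
      have hu2 : u = (u ^ 2) ^ (m + 1) := by
        rw [← pow_mul, show 2 * (m + 1) = orderOf u + 1 by omega, pow_add, pow_orderOf_eq_one, one_mul, pow_one]
      have h3 := h2.pow_left (m + 1)
      rw [← hu2] at h3
      exact h3.eq.symm
  refine ⟨hAn, hAz, hAc, fun x hx => ?_⟩
  rw [← hLeq] at hx
  induction hx using Subgroup.closure_induction with
  | mem u hu => rw [hu.2, inv_mul_cancel]; exact one_mem _
  | one => simp
  | mul a b haL hbL ha hb =>
    have haQ : a ∈ Q := hLeq ▸ haL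
    have hbQ : b ∈ Q := hLeq ▸ hbL
    set d := z * a * z⁻¹ * a with hd
    set e := z * b * z⁻¹ * b with he
    have hc := Subgroup.commutator_mem_commutator (inv_mem haQ) (inv_mem hbQ)
    rw [commutatorElement_def, inv_inv, inv_inv] at hc
    have h1 : z * (a * b) * z⁻¹ * (a * b) = d * e * (a⁻¹ * b⁻¹ * a * b) := by
      calc z * (a * b) * z⁻¹ * (a * b) = d * (a⁻¹ * e * (b⁻¹ * a * b)) := by rw [hd, he]; group
        _ = d * (e * a⁻¹ * (b⁻¹ * a * b)) := by rw [hAc e hb a⁻¹ (inv_mem haQ)]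
        _ = _ := by group
    rw [h1]
    exact mul_mem (mul_mem ha hb) hc
  | inv a haL ha =>
    have haQ : a ∈ Q := hLeq ▸ haL
    have h1 : z * a⁻¹ * z⁻¹ * a⁻¹ = (a * (z * a * z⁻¹ * a) * a⁻¹)⁻¹ := by group
    rw [h1, ← hAc _ ha a haQ, mul_inv_cancel_right]
    exact inv_mem ha

/-- A subgroup fixing the radical acts semiregularly on its non-trivial cosets. -/
theorem card_dvd_index_sub_one {P Q : Subgroup G} (hP : IsPGroup 2 P) {z : G}
    (hz : ∀ p ∈ P, p ≠ 1 → z ∈ Subgroup.zpowers p) (hQn : P ≤ Subgroup.normalizer (Q : Set G))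
    (hQodd : Odd (Nat.card Q)) (R : Subgroup Q) (hRn : R.Normal)
    (hR : ∀ p ∈ P, ∀ x : Q, x ∈ R → ∀ y : Q, (y : G) = p * x * p⁻¹ → y ∈ R)
    (hinv : ∀ x : Q, ∀ y : Q, (y : G) = z * x * z⁻¹ → y * x ∈ R) :
    Nat.card P ∣ R.index - 1 := by
  classical
  let φ : P → Q → Q := fun p x => ⟨(p : G) * x * (p : G)⁻¹, Solv.conj_mem_of_mem_normalizer (hQn p.2) x.2⟩
  have hφmul : ∀ p p' x, φ (p * p') x = φ p (φ p' x) := fun p p' x => Subtype.ext (by simp [φ, mul_assoc])
  have hφone : ∀ x, φ 1 x = x := fun x => Subtype.ext (by simp [φ])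
  have hφinv : ∀ p x y, (φ p x)⁻¹ * φ p y = φ p (x⁻¹ * y) := fun p x y => Subtype.ext (by simp [φ, mul_assoc])
  have hrel : ∀ p x y, x⁻¹ * y ∈ R → (φ p x)⁻¹ * φ p y ∈ R := fun p x y h => by
    rw [hφinv]; exact hR p p.2 _ h _ rfl
  let X := {c : Q ⧸ R // c ≠ QuotientGroup.mk 1}
  let act : P → Q ⧸ R → Q ⧸ R := fun p => Quotient.lift (fun x => (QuotientGroup.mk (φ p x) : Q ⧸ R))
    fun x y h => QuotientGroup.eq.2 (hrel p x y (QuotientGroup.leftRel_apply.1 h))
  have hact : ∀ p x, act p (QuotientGroup.mk x) = QuotientGroup.mk (φ p x) := fun _ _ => rfl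
  have hact1 : ∀ p, act p (QuotientGroup.mk 1) = QuotientGroup.mk 1 := fun p => by
    rw [hact]; congr 1; exact Subtype.ext (by simp [φ])
  have hmul : ∀ p p' c, act (p * p') c = act p (act p' c) := fun p p' c => by
    induction c using QuotientGroup.induction_on with
    | _ x => rw [hact, hact, hact, hφmul]
  have hone : ∀ c, act 1 c = c := fun c => by
    induction c using QuotientGroup.induction_on with
    | _ x => rw [hact, hφone]
  letI : MulAction P X :=
    { smul := fun p c => ⟨act p c.1, fun e => c.2 (by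
        have h := congrArg (act p⁻¹) e
        rwa [← hmul, inv_mul_cancel, hone, hact1] at h)⟩
      one_smul := fun c => Subtype.ext (hone c.1)
      mul_smul := fun p p' c => Subtype.ext (hmul p p' c.1) }
  have hstab : ∀ c : X, MulAction.stabilizer P c = ⊥ := fun c => by
    rw [Subgroup.eq_bot_iff_forall]
    intro p hp
    by_contra hp1
    obtain ⟨m, hm⟩ := hz p p.2 fun e => hp1 (Subtype.ext e)
    have hzc : act (p ^ m) c.1 = c.1 :=
      congrArg Subtype.val (Subgroup.zpow_mem _ hp m : p ^ m ∈ MulAction.stabilizer P c)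
    obtain ⟨x, hx⟩ := QuotientGroup.mk_surjective c.1
    rw [← hx, hact, QuotientGroup.eq] at hzc
    have hpm : ((p ^ m : P) : G) = z := by rw [Subgroup.coe_zpow]; exact hm
    set y := φ (p ^ m) x with hy
    have hyx : y * x ∈ R := hinv x y (by rw [hy]; simp only [φ, hpm])
    have h2 : x * x ∈ R := by
      have h := R.mul_mem (hRn.conj_mem _ hyx x) hzc
      rwa [show x * (y * x) * x⁻¹ * (y⁻¹ * x) = x * x by group] at h
    obtain ⟨j, hj⟩ := hQodd.of_dvd_nat (orderOf_dvd_natCard (x : Q))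
    have hxR : x ∈ R := by
      have hxx : x = (x * x) ^ (j + 1) := by
        rw [← pow_two, ← pow_mul, show 2 * (j + 1) = orderOf x + 1 by omega, pow_add, pow_orderOf_eq_one,
          one_mul, pow_one]
      rw [hxx]
      exact pow_mem h2 _
    exact c.2 (hx.symm.trans (QuotientGroup.eq.2 (by simpa using R.inv_mem hxR)))
  have e := MulAction.selfEquivOrbitsQuotientProd hstab
  have hcard := Nat.card_congr e
  rw [Nat.card_prod] at hcard
  have hX : Nat.card X = R.index - 1 := by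
    have h1 : Nat.card X = ({c : Q ⧸ R | c ≠ QuotientGroup.mk 1}).ncard := rfl
    rw [h1, show {c : Q ⧸ R | c ≠ QuotientGroup.mk 1} = (Set.univ : Set (Q ⧸ R)) \ {QuotientGroup.mk 1} by
      ext c; simp, Set.ncard_sdiff_singleton_of_mem (Set.mem_univ _), Set.ncard_univ, Subgroup.index_eq_card]
  rw [← hX, hcard]
  exact dvd_mul_left _ _

theorem sq_lt_two_pow (w : ℕ) : w ^ 2 < 2 ^ (w + 1) := by
  induction w with
  | zero => norm_num
  | succ w ih =>
    rcases Nat.lt_or_ge w 3 with h | h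
    · interval_cases w <;> norm_num
    · have h1 : (w + 1) ^ 2 ≤ 2 * w ^ 2 := by nlinarith
      rw [pow_succ 2 (w + 1)]
      omega

theorem two_mul_add_le {j : ℕ} (hj : 2 ≤ j) : j + 2 ≤ 2 ^ j := by
  induction j, hj using Nat.le_induction with
  | base => norm_num
  | succ j hj ih =>
    rw [pow_succ]
    omega

section Field

variable {K : Type*} [Field K] [CharP K 2] [IsAlgClosed K] {W : Type v} [AddCommGroup W] [Module K W]
  [FiniteDimensional K W]

/-- In characteristic two only one squares to one. -/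
theorem eq_one_of_sq {a : K} (h : a * a = 1) : a = 1 := by
  have h2 : (2 : K) = 0 := by exact_mod_cast CharP.cast_eq_zero K 2
  have h3 : (a - 1) ^ 2 = 0 := by linear_combination h + (1 - a) * h2
  exact sub_eq_zero.1 (pow_eq_zero_iff two_ne_zero |>.1 h3)

/-- The dimension bound over an algebraically closed field, given the Frobenius twist of each eigenspace. -/
theorem bound_field (σ : Representation K G W) (hσ : Function.Injective σ)
    (htwist : ∀ (A : Subgroup G) (χ : G → K), eig σ A χ ≠ ⊥ → eig σ A (fun a => χ a * χ a) ≠ ⊥)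
    {S O : Subgroup G} (hS : IsPGroup 2 S) {z : G} (hzS : z ∈ S) (hz : orderOf z = 2)
    (huniq : ∀ x ∈ S, orderOf x = 2 → x = z) (hO : Odd (Nat.card O))
    (hSO : S ≤ Subgroup.normalizer (O : Set G)) (hmove : ∃ y ∈ O, z * y * z⁻¹ ≠ y)
    {k : ℕ} (hk : Nat.card S = 2 ^ k) : 2 * k ≤ Module.finrank K W := by
  classical
  haveI : Fact (Nat.Prime 2) := ⟨Nat.prime_two⟩
  have hzz : z * z = 1 := by rw [← pow_two, ← hz, pow_orderOf_eq_one]
  have hz1 : z ≠ 1 := fun e => by rw [e, orderOf_one] at hz; omega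
  have hzmem : ∀ s ∈ S, s ≠ 1 → z ∈ Subgroup.zpowers s := by
    intro s hs hs1
    obtain ⟨m, hm⟩ := hS.exists_orderOf_eq_pow ⟨s, hs⟩
    rw [← Subgroup.orderOf_coe] at hm
    have hm : orderOf s = 2 ^ m := hm
    rcases Nat.eq_zero_or_pos m with rfl | hm0
    · exact absurd (orderOf_eq_one_iff.1 (hm.trans (pow_zero 2))) hs1
    · have h2 : orderOf (s ^ 2 ^ (m - 1)) = 2 := by
        rw [orderOf_pow_of_dvd (Nat.pos_iff_ne_zero.1 (Nat.pow_pos two_pos))
          (hm ▸ pow_dvd_pow 2 (Nat.sub_le m 1)), hm, Nat.pow_div (Nat.sub_le m 1) two_pos,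
          show m - (m - 1) = 1 by omega, pow_one]
      rw [← huniq _ (pow_mem hs _) h2]
      exact pow_mem (Subgroup.mem_zpowers s) _
  have hzc : ∀ s ∈ S, s * z = z * s := fun s hs => by
    refine mul_inv_eq_iff_eq_mul.1 (huniq _ (mul_mem (mul_mem hs hzS) (inv_mem hs)) ?_)
    rw [show s * z * s⁻¹ = (MulAut.conj s).toMonoidHom z by simp, orderOf_injective _ (MulAut.conj s).injective, hz]
  obtain ⟨q, Q, hq, hQp, hQO, hQn, hQm, hmin⟩ := exists_minimal hS hzS hO hSO hmove
  have hQodd : Odd (Nat.card Q) := hO.of_dvd_nat (Subgroup.card_dvd_of_le hQO)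
  obtain ⟨hAn, hAz, hAc, hinv⟩ := minimal_structure hzS hzz hzc hq hQp hQodd hQn hQm hmin
  have hodd1 : ∀ x ∈ Q, Odd (orderOf x) := fun x hx => hQodd.of_dvd_nat (Subgroup.orderOf_dvd_natCard _ hx)
  by_cases hA1 : ⁅Q, Q⁆ = ⊥
  · -- a group inverted by the involution
    have hcomm : ∀ a ∈ Q, ∀ b ∈ Q, a * b = b * a := fun a ha b hb => by
      have h := Subgroup.commutator_mem_commutator ha hb
      rw [hA1, Subgroup.mem_bot, commutatorElement_eq_one_iff_mul_comm] at h
      exact h
    have hinv' : ∀ x ∈ Q, z * x * z⁻¹ = x⁻¹ := fun x hx => by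
      have h := hinv x hx
      rw [hA1, Subgroup.mem_bot] at h
      exact eq_inv_of_mul_eq_one_left h
    obtain ⟨c, hc, hcne⟩ := hQm
    have hc1 : c ≠ 1 := fun e => hcne (by rw [e]; group)
    obtain ⟨χ, hχ, hχc⟩ := exists_eig σ hcomm hc (hodd1 c hc) fun e => hc1 (hσ (e.trans (map_one σ).symm))
    have hQn' : ∀ s : S, ∀ a ∈ Q, (s : G)⁻¹ * a * s ∈ Q := fun s a ha => by
      have := Solv.conj_mem_of_mem_normalizer (inv_mem (hQn s.2)) ha
      rwa [inv_inv] at this
    let χs : S → Q → K := fun s a => χ ((s : G)⁻¹ * a * s)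
    have hinj : Function.Injective χs := by
      intro s s' e
      by_contra hne
      have key : ∀ p : G, p ∈ S → (∀ a ∈ Q, χ (p⁻¹ * a * p) = χ a) → ∀ (n : ℕ), ∀ a ∈ Q,
          χ ((p ^ n)⁻¹ * a * p ^ n) = χ a := by
        intro p hp hp' n
        induction n with
        | zero => intro a _; simp
        | succ n ih =>
          intro a ha
          have h1 : p⁻¹ * a * p ∈ Q := hQn' ⟨p, hp⟩ a ha
          rw [show (p ^ (n + 1))⁻¹ * a * p ^ (n + 1) = (p ^ n)⁻¹ * (p⁻¹ * a * p) * p ^ n by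
            rw [pow_succ']; group, ih _ h1, hp' a ha]
      set p : G := (s : G)⁻¹ * s' with hp
      have hpS : p ∈ S := mul_mem (inv_mem s.2) s'.2
      have hp1 : p ≠ 1 := fun e' => hne (Subtype.ext (inv_mul_eq_one.1 e'))
      have hp' : ∀ a ∈ Q, χ (p⁻¹ * a * p) = χ a := fun a ha => by
        have hsa : (s : G) * a * (s : G)⁻¹ ∈ Q := Solv.conj_mem_of_mem_normalizer (hQn s.2) ha
        have h := congrFun e ⟨_, hsa⟩
        simp only [χs] at h
        rw [show (s : G)⁻¹ * ((s : G) * a * (s : G)⁻¹) * s = a by group] at h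
        rw [h, hp]
        congr 1
        group
      obtain ⟨m, hm⟩ := (mem_powers_iff_mem_zpowers.2 (hzmem p hpS hp1) : z ∈ Submonoid.powers p)
      have hm : p ^ m = z := hm
      have h := key p hpS hp' m c hc
      rw [hm, show z⁻¹ * c * z = z * c * z⁻¹ by rw [inv_eq_of_mul_eq_one_right hzz], hinv' c hc] at h
      refine hχc (eq_one_of_sq ?_)
      calc χ c * χ c = χ c⁻¹ * χ c := by rw [h]
        _ = 1 := chi_inv σ hχ hc
    haveI := Fintype.ofFinite S
    have hsum := sum_finrank_le (fun a : Q => σ (a : G)) χs hinj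
      (fun s => eig σ Q (fun a => χ ((s : G)⁻¹ * a * s))) fun s v hv a => hv a a.2
    have hcard : Fintype.card S ≤ ∑ s : S, Module.finrank K (eig σ Q (fun a => χ ((s : G)⁻¹ * a * s))) := by
      rw [← Finset.card_univ, Finset.card_eq_sum_ones]
      refine Finset.sum_le_sum fun s _ => le_trans ?_ (finrank_le_map_eig σ (hQn' s))
      exact Nat.one_le_iff_ne_zero.2 fun h0 => hχ (Submodule.finrank_eq_zero.1 h0)
    rw [← Nat.card_eq_fintype_card, hk] at hcard
    have : 2 * k ≤ 2 ^ k := by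
      rcases Nat.lt_or_ge k 2 with h | h
      · interval_cases k <;> norm_num
      · have h' := two_mul_add_le h
        rcases Nat.lt_or_ge k 3 with h3 | h3
        · interval_cases k; norm_num
        · obtain ⟨j, rfl⟩ : ∃ j, k = j + 1 := ⟨k - 1, by omega⟩
          have := two_mul_add_le (show 2 ≤ j by omega)
          rw [pow_succ]
          omega
    exact this.trans (hcard.trans hsum)
  -- the commutator subgroup acts through a non-trivial character
  set A := ⁅Q, Q⁆ with hAdef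
  have hAQ : A ≤ Q := Subgroup.commutator_le.2 fun x hx y hy =>
    mul_mem (mul_mem (mul_mem hx hy) (inv_mem hx)) (inv_mem hy)
  have hAcomm : ∀ a ∈ A, ∀ b ∈ A, a * b = b * a := fun a ha b hb => hAc a ha b (hAQ hb)
  obtain ⟨c, hc, hc1⟩ := (Subgroup.bot_or_exists_ne_one A).resolve_left hA1
  obtain ⟨χ, hχ, hχc⟩ := exists_eig σ hAcomm hc (hodd1 c (hAQ hc)) fun e => hc1 (hσ (e.trans (map_one σ).symm))
  set χ2 : G → K := fun a => χ a * χ a with hχ2def
  have hχ2 : eig σ A χ2 ≠ ⊥ := htwist A χ hχ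
  have hA : ∀ x ∈ Q, ∀ y ∈ Q, ⁅x, y⁆ ∈ A := fun x hx y hy => Subgroup.commutator_mem_commutator hx hy
  set R := radical σ Q A χ hA hAc hχ with hRdef
  have hR2 : radical σ Q A χ2 hA hAc hχ2 = R := by
    ext x
    rw [hRdef, mem_radical, mem_radical]
    refine forall₂_congr fun y hy => ⟨fun h => eq_one_of_sq h, fun h => ?_⟩
    show χ _ * χ _ = 1
    rw [h, one_mul]
  set w := Module.finrank K (eig σ A χ) with hwdef
  set w2 := Module.finrank K (eig σ A χ2) with hw2def
  have hN : R.index ≤ w ^ 2 := index_radical_le σ hA hAc hχ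
  have hN2 : R.index ≤ w2 ^ 2 := hR2 ▸ index_radical_le σ hA hAc hχ2
  have hAR : ∀ x : Q, (x : G) ∈ A → x ∈ R := fun x hx => (mem_radical σ).2 fun y hy => by
    rw [commutatorElement_eq_one_iff_mul_comm.2 (hAc _ hx y hy), chi_one σ hχ]
  have hRn : R.Normal := ⟨fun r hr g => by
    have h : g * r * g⁻¹ * r⁻¹ ∈ R := hAR _ (by
      show ⁅(g : G), (r : G)⁆ ∈ A
      exact hA _ g.2 _ r.2)
    simpa using mul_mem h hr⟩
  have hRtop : R ≠ ⊤ := fun h => by
    refine hχc ?_
    have hle : A ≤ Subgroup.closure {a | a ∈ A ∧ χ a = 1} := by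
      rw [hAdef, Subgroup.commutator_le]
      intro x hx y hy
      exact Subgroup.subset_closure ⟨hA x hx y hy,
        (mem_radical σ).1 (h ▸ Subgroup.mem_top (⟨x, hx⟩ : Q)) y hy⟩
    have key : ∀ a ∈ Subgroup.closure {a | a ∈ A ∧ χ a = 1}, a ∈ A ∧ χ a = 1 := by
      intro a ha
      induction ha using Subgroup.closure_induction with
      | mem a ha => exact ha
      | one => exact ⟨one_mem _, chi_one σ hχ⟩
      | mul a b _ _ ha hb => exact ⟨mul_mem ha.1 hb.1, by rw [chi_mul σ hχ ha.1 hb.1, ha.2, hb.2, one_mul]⟩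
      | inv a _ ha =>
        have h' := chi_inv σ hχ ha.1
        rw [ha.2, mul_one] at h'
        exact ⟨inv_mem ha.1, h'⟩
    exact (key c (hle hc)).2
  have hN3 : 3 ≤ R.index := by
    have h0 : R.index ≠ 0 := Subgroup.index_ne_zero_of_finite
    have h1 : R.index ≠ 1 := fun h => hRtop (Subgroup.index_eq_one.1 h)
    have h2 : R.index ≠ 2 := fun h =>
      hQodd.not_two_dvd_nat ((dvd_of_eq h.symm).trans R.index_dvd_card)
    omega
  have hw : 2 ≤ w := by
    by_contra h
    interval_cases w <;> omega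
  have hw2 : 2 ≤ w2 := by
    by_contra h
    interval_cases w2 <;> omega
  -- the stabiliser of the character
  have hSA : ∀ s ∈ S, ∀ a ∈ A, s⁻¹ * a * s ∈ A := fun s hs a ha => by
    have := Solv.conj_mem_of_mem_normalizer (inv_mem (hAn hs)) ha
    rwa [inv_inv] at this
  let P : Subgroup G :=
    { carrier := {p | p ∈ S ∧ ∀ a ∈ A, χ (p⁻¹ * a * p) = χ a}
      one_mem' := ⟨one_mem S, fun a _ => by simp⟩
      mul_mem' := fun {p p'} hp hp' => ⟨mul_mem hp.1 hp'.1, fun a ha => by
        rw [show (p * p')⁻¹ * a * (p * p') = p'⁻¹ * (p⁻¹ * a * p) * p' by group,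
          hp'.2 _ (hSA p hp.1 a ha), hp.2 a ha]⟩
      inv_mem' := fun {p} hp => ⟨inv_mem hp.1, fun a ha => by
        have hmem : p⁻¹⁻¹ * a * p⁻¹ ∈ A := hSA p⁻¹ (inv_mem hp.1) a ha
        have := hp.2 _ hmem
        rw [show p⁻¹ * (p⁻¹⁻¹ * a * p⁻¹) * p = a by group] at this
        exact this.symm⟩ }
  have hPS : P ≤ S := fun p hp => hp.1
  have hzP : z ∈ P := ⟨hzS, fun a ha => by
    rw [show z⁻¹ * a * z = z * a * z⁻¹ by rw [inv_eq_of_mul_eq_one_right hzz], hAz a ha]⟩
  -- a subgroup of `S` fixing the radical has small order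
  have hfixR : ∀ P' : Subgroup G, P' ≤ S →
      (∀ p ∈ P', ∀ a ∈ A, χ (p⁻¹ * a * p) = χ a ∨ χ (p⁻¹ * a * p) * χ (p⁻¹ * a * p) = χ a) →
      ∀ {n : ℕ}, Nat.card P' = 2 ^ n → n ≤ w := by
    intro P' hP' hχP n hn
    have hstab : ∀ p ∈ P', ∀ x : Q, x ∈ R → ∀ y : Q, (y : G) = p * x * p⁻¹ → y ∈ R := by
      intro p hp x hx y hy
      refine (mem_radical σ).2 fun b hb => ?_
      have hb' : p⁻¹ * b * p ∈ Q := by
        have := Solv.conj_mem_of_mem_normalizer (inv_mem (hQn (hP' hp))) hb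
        rwa [inv_inv] at this
      have he : p⁻¹ * ⁅(y : G), b⁆ * p = ⁅(x : G), p⁻¹ * b * p⁆ := by
        simp only [hy, commutatorElement_def]; group
      have h1 := (mem_radical σ).1 hx _ hb'
      rcases hχP p hp _ (hA _ y.2 _ hb) with h | h
      · rw [← h, he, h1]
      · rw [← h, he, h1, one_mul]
    have hdvd := card_dvd_index_sub_one (hS.to_le hP') (z := z) (fun p hp hp1 => hzmem p (hP' hp) hp1)
      (hP'.trans hQn) hQodd R hRn hstab fun x y hy => hAR _ (by
        rw [Subgroup.coe_mul, hy]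
        exact hinv x x.2)
    have hle := Nat.le_of_dvd (by omega) hdvd
    rw [hn] at hle
    by_contra hlt
    have h1 : 2 ^ (w + 1) ≤ 2 ^ n := Nat.pow_le_pow_right two_pos (by omega)
    have h2 := sq_lt_two_pow w
    omega
  obtain ⟨k1, hk1⟩ := IsPGroup.iff_card.1 (hS.to_le hPS)
  have hk1w : k1 ≤ w := hfixR P hPS (fun p hp a ha => Or.inl (hp.2 a ha)) hk1
  have hk10 : 1 ≤ k1 := by
    by_contra h
    obtain rfl : k1 = 0 := by omega
    exact hz1 (Subgroup.mem_bot.1 (Subgroup.eq_bot_of_card_eq P (hk1.trans (pow_zero 2)) ▸ hzP))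
  set P0 := P.subgroupOf S with hP0
  have hP0card : Nat.card P0 = 2 ^ k1 := (Nat.card_congr (Subgroup.subgroupOfEquivOfLe hPS).toEquiv).trans hk1
  obtain ⟨j, hj⟩ : ∃ j, P0.index = 2 ^ j := by
    obtain ⟨j, -, hj⟩ := (Nat.dvd_prime_pow Nat.prime_two).1 (hk ▸ P0.index_dvd_card)
    exact ⟨j, hj⟩
  have hkj : k = k1 + j := by
    have h := P0.card_mul_index
    rw [hP0card, hj, hk, ← pow_add] at h
    exact (Nat.pow_right_injective le_rfl h).symm
  haveI := Fintype.ofFinite (S ⧸ P0)
  let χq : S ⧸ P0 → A → K := fun o a => χ ((o.out : G)⁻¹ * a * (o.out : G))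
  have hqinj : Function.Injective χq := by
    intro o o' e
    rw [← QuotientGroup.out_eq' o, ← QuotientGroup.out_eq' o', QuotientGroup.eq]
    refine Subgroup.mem_subgroupOf.2 ?_
    refine ⟨((o.out)⁻¹ * o'.out : S).2, fun a ha => ?_⟩
    have hsa : (o.out : G) * a * (o.out : G)⁻¹ ∈ A := Solv.conj_mem_of_mem_normalizer (hAn o.out.2) ha
    have h := congrFun e ⟨_, hsa⟩
    simp only [χq] at h
    rw [show (o.out : G)⁻¹ * ((o.out : G) * a * (o.out : G)⁻¹) * (o.out : G) = a by group] at h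
    rw [h]
    congr 1
    simp [mul_assoc]
  let E : S ⧸ P0 → Submodule K W := fun o => eig σ A (fun a => χ ((o.out : G)⁻¹ * a * (o.out : G)))
  have hEw : ∀ o, w ≤ Module.finrank K (E o) := fun o => finrank_le_map_eig σ (hSA _ o.out.2)
  have hcardq : Fintype.card (S ⧸ P0) = 2 ^ j := by
    rw [← Nat.card_eq_fintype_card, ← Subgroup.index_eq_card, hj]
  have hbase : 2 ^ j * w ≤ ∑ o, Module.finrank K (E o) := by
    calc 2 ^ j * w = ∑ _o : S ⧸ P0, w := by rw [Finset.sum_const, Finset.card_univ, hcardq, smul_eq_mul]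
      _ ≤ _ := Finset.sum_le_sum fun o _ => hEw o
  by_cases hin : ∃ o, χq o = fun a : A => χ2 a
  · -- the square is a conjugate
    obtain ⟨o, ho⟩ := hin
    have hsum := sum_finrank_le (fun a : A => σ (a : G)) χq hqinj E fun o v hv a => hv a a.2
    have hj1 : 1 ≤ j := by
      by_contra h
      obtain rfl : j = 0 := by omega
      rw [pow_zero, Subgroup.index_eq_one] at hj
      have hoP : (o.out : G) ∈ P := Subgroup.mem_subgroupOf.1 (hj.ge (Subgroup.mem_top o.out))
      have h1 := congrFun ho ⟨c, hc⟩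
      simp only [χq, χ2] at h1
      rw [hoP.2 c hc] at h1
      exact hχc (mul_left_cancel₀ (chi_ne_zero σ hχ hc) (h1.symm.trans (mul_one _).symm))
    rcases Nat.lt_or_ge j 2 with hj2 | hj2
    · obtain rfl : j = 1 := by omega
      -- all of `S` fixes the radical
      set p := (o.out : G) with hp
      have hpnot : p ∉ P := fun hpP => by
        have h1 := congrFun ho ⟨c, hc⟩
        simp only [χq, χ2] at h1
        rw [hpP.2 c hc] at h1
        exact hχc (mul_left_cancel₀ (chi_ne_zero σ hχ hc) (h1.symm.trans (mul_one _).symm))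
      have hkw : k ≤ w := by
        refine hfixR S le_rfl (fun s hs a ha => ?_) hk
        by_cases hsP : s ∈ P
        · exact Or.inl (hsP.2 a ha)
        · right
          have hidx : P0.index = 2 := by rw [hj, pow_one]
          have hmem : p⁻¹ * s ∈ P := by
            have := (Subgroup.mul_mem_iff_of_index_two hidx (a := (o.out)⁻¹) (b := (⟨s, hs⟩ : S))).2
              (by
                refine iff_of_false (fun h => hpnot ?_) fun h => hsP (Subgroup.mem_subgroupOf.1 h)
                have := P0.inv_mem h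
                rw [inv_inv] at this
                exact Subgroup.mem_subgroupOf.1 this)
            exact Subgroup.mem_subgroupOf.1 this
          have hpa : p⁻¹ * a * p ∈ A := hSA p o.out.2 a ha
          have hsa : χ (s⁻¹ * a * s) = χ (p⁻¹ * a * p) := by
            rw [show s⁻¹ * a * s = (p⁻¹ * s)⁻¹ * (p⁻¹ * a * p) * (p⁻¹ * s) by group, hmem.2 _ hpa]
          have h1 : χ (p⁻¹ * a * p) = χ a * χ a := congrFun ho ⟨a, ha⟩
          have h2 : χ (p⁻¹ * (p⁻¹ * a * p) * p) = χ a := by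
            have hpp : p * p ∈ P := by
              have := (Subgroup.mul_mem_iff_of_index_two hidx (a := o.out) (b := o.out)).2 Iff.rfl
              exact Subgroup.mem_subgroupOf.1 this
            rw [show p⁻¹ * (p⁻¹ * a * p) * p = (p * p)⁻¹ * a * (p * p) by group, hpp.2 a ha]
          rw [hsa, ← h2]
          exact (congrFun ho ⟨_, hpa⟩).symm
      calc 2 * k ≤ 2 ^ 1 * w := by omega
        _ ≤ _ := hbase.trans hsum
    · have h2j := two_mul_add_le hj2
      calc 2 * k ≤ 2 ^ j * w := by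
            obtain ⟨e, he⟩ : ∃ e, 2 ^ j = e + 2 := ⟨2 ^ j - 2, by omega⟩
            rw [he, add_mul]
            have : e * 2 ≤ e * w := Nat.mul_le_mul_left e hw
            omega
        _ ≤ _ := hbase.trans hsum
  · push Not at hin
    let χo : Option (S ⧸ P0) → A → K := fun o => o.elim (fun a => χ2 a) χq
    have hoinj : Function.Injective χo := by
      rintro (_ | o) (_ | o') e
      · rfl
      · exact absurd e.symm (hin o')
      · exact absurd e (hin o)
      · exact congrArg some (hqinj e)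
    let Eo : Option (S ⧸ P0) → Submodule K W := fun o => o.elim (eig σ A χ2) E
    have hsum := sum_finrank_le (fun a : A => σ (a : G)) χo hoinj Eo (by
      rintro (_ | o) v hv a
      · exact (hv : v ∈ eig σ A χ2) a a.2
      · exact (hv : v ∈ E o) a a.2)
    rw [Fintype.sum_option] at hsum
    change w2 + ∑ o, Module.finrank K (E o) ≤ _ at hsum
    rcases Nat.eq_zero_or_pos j with rfl | hj1
    · have hk1w2 : k1 ≤ w2 := by
        by_contra hlt
        have hle := Nat.le_of_dvd (show 0 < R.index - 1 by omega)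
          (card_dvd_index_sub_one (hS.to_le hPS) (fun p hp hp1 => hzmem p (hPS hp) hp1) (hPS.trans hQn) hQodd R hRn
            (fun p hp x hx y hy => by
              refine (mem_radical σ).2 fun b hb => ?_
              have hb' : p⁻¹ * b * p ∈ Q := by
                have := Solv.conj_mem_of_mem_normalizer (inv_mem (hQn (hPS hp))) hb
                rwa [inv_inv] at this
              rw [← hp.2 _ (hA _ y.2 _ hb), show p⁻¹ * ⁅(y : G), b⁆ * p = ⁅(x : G), p⁻¹ * b * p⁆ by
                simp only [hy, commutatorElement_def]; group]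
              exact (mem_radical σ).1 hx _ hb')
            fun x y hy => hAR _ (by rw [Subgroup.coe_mul, hy]; exact hinv x x.2))
        rw [hk1] at hle
        have h1 : 2 ^ (w2 + 1) ≤ 2 ^ k1 := Nat.pow_le_pow_right two_pos (by omega)
        have h2 := sq_lt_two_pow w2
        omega
      rw [pow_zero, one_mul] at hbase
      omega
    · rcases Nat.lt_or_ge j 2 with hj2 | hj2
      · obtain rfl : j = 1 := by omega
        rw [pow_one] at hbase
        omega
      · have h2j := two_mul_add_le hj2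
        obtain ⟨e, he⟩ : ∃ e, 2 ^ j = e + 2 := ⟨2 ^ j - 2, by omega⟩
        rw [he, add_mul] at hbase
        have : e * 2 ≤ e * w := Nat.mul_le_mul_left e hw
        omega

end Field

theorem zmod_two_sq : ∀ x : ZMod 2, x * x = x := by decide

section Descent

variable {V : Type v} [AddCommGroup V] [Module (ZMod 2) V] [Module.Finite (ZMod 2) V]

/-- **A group of odd order moved by the only involution of a `2`-group forces twice its exponent as dimension.** -/
theorem rankOne_bound (ρ : Representation (ZMod 2) G V) (hρ : Function.Injective ρ)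
    {S O : Subgroup G} (hS : IsPGroup 2 S) {z : G} (hzS : z ∈ S) (hz : orderOf z = 2)
    (huniq : ∀ x ∈ S, orderOf x = 2 → x = z) (hO : Odd (Nat.card O))
    (hSO : S ≤ Subgroup.normalizer (O : Set G)) (hmove : ∃ y ∈ O, z * y * z⁻¹ ≠ y)
    {k : ℕ} (hk : Nat.card S = 2 ^ k) : 2 * k ≤ Module.finrank (ZMod 2) V := by
  classical
  haveI : Fact (Nat.Prime 2) := ⟨Nat.prime_two⟩
  let K := AlgebraicClosure (ZMod 2)
  haveI : CharP K 2 := charP_of_injective_algebraMap (algebraMap (ZMod 2) K).injective 2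
  let b := Module.finBasis (ZMod 2) V
  let d := Module.finrank (ZMod 2) V
  let M : G →* Matrix (Fin d) (Fin d) (ZMod 2) := ((LinearMap.toMatrixAlgEquiv b).toMonoidHom).comp ρ
  let MK : G →* Matrix (Fin d) (Fin d) K := ((algebraMap (ZMod 2) K).mapMatrix.toMonoidHom).comp M
  let σ : Representation K G (Fin d → K) := (Matrix.toLinAlgEquiv'.toMonoidHom).comp MK
  have hσ : Function.Injective σ := by
    refine Matrix.toLinAlgEquiv'.injective.comp ?_
    refine (Matrix.map_injective (algebraMap (ZMod 2) K).injective).comp ?_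
    exact (LinearMap.toMatrixAlgEquiv b).injective.comp hρ
  have hσapp : ∀ g v, σ g v = Matrix.mulVec ((M g).map (algebraMap (ZMod 2) K)) v := fun g v =>
    Matrix.toLinAlgEquiv'_apply _ _
  have htwist : ∀ (A : Subgroup G) (χ : G → K), eig σ A χ ≠ ⊥ → eig σ A (fun a => χ a * χ a) ≠ ⊥ := by
    intro A χ h
    obtain ⟨v, hv, hv0⟩ := (Submodule.ne_bot_iff _).1 h
    refine (Submodule.ne_bot_iff _).2 ⟨fun i => v i * v i, fun a ha => ?_, fun e => hv0 (funext fun i => ?_)⟩
    · have hentry : ∀ i l, (M a).map (algebraMap (ZMod 2) K) i l * (M a).map (algebraMap (ZMod 2) K) i l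
          = (M a).map (algebraMap (ZMod 2) K) i l := fun i l => by
        rw [Matrix.map_apply, ← map_mul]
        congr 1
        exact zmod_two_sq _
      have hva := hv a ha
      funext i
      have hi := congrFun hva i
      rw [hσapp] at hi
      rw [hσapp]
      show ∑ l, (M a).map (algebraMap (ZMod 2) K) i l * (v l * v l) = χ a * χ a * (v i * v i)
      change ∑ l, (M a).map (algebraMap (ZMod 2) K) i l * v l = χ a * v i at hi
      calc ∑ l, (M a).map (algebraMap (ZMod 2) K) i l * (v l * v l)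
          = ∑ l, ((M a).map (algebraMap (ZMod 2) K) i l * v l) ^ 2 := by
            refine Finset.sum_congr rfl fun l _ => ?_
            rw [mul_pow, pow_two, pow_two, hentry]
        _ = (∑ l, (M a).map (algebraMap (ZMod 2) K) i l * v l) ^ 2 := (sum_pow_char 2 _ _).symm
        _ = _ := by rw [hi, mul_pow, pow_two, pow_two]
    · have := congrFun e i
      exact mul_self_eq_zero.1 this
  have h := bound_field σ hσ htwist hS hzS hz huniq hO hSO hmove hk
  rwa [Module.finrank_fin_fun] at h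

end Descent

end Cfsg.Agent.Bender.ModBound
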