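import Cfsg.Agent.Lib.Bender.ModuleBound.Ranks
import Cfsg.Agent.Lib.Bender.ModuleBound.RankOne

/-!
# Dimensions of faithful modules in characteristic two
-/

set_option autoImplicit false
set_option linter.style.haveILetI false
set_option linter.unusedSectionVars false

namespace Cfsg.Agent.Bender.ModBound

open Cfsg Cfsg.Agent
open Cfsg.Agent.Lie.R1C (zg)

universe u v

variable {G : Type u} [Group G] [Finite G] {H : Subgroup G} {V : Type v} [AddCommGroup V] [Module (ZMod 2) V]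
  [Module.Finite (ZMod 2) V] (ρ : Representation (ZMod 2) G V) (hρ : Function.Injective ρ)

include hρ

theorem one_class_case (hse : Cfsg.IsStronglyEmbedded H) (hm : SEB.mbar ↥H = 1) (S : Sylow 2 G) :
    (∀ k : ℕ, Nat.card ↥(S : Subgroup G) = 2 ^ k → 2 * k ≤ Module.finrank (ZMod 2) V) ∧
    ∀ n : ℕ, (∀ z ∈ (S : Subgroup G) ⊓ Subgroup.centralizer ((S : Subgroup G) : Set G), z ^ 2 = 1) →
      Nat.card ↥((S : Subgroup G) ⊓ Subgroup.centralizer ((S : Subgroup G) : Set G)) = 2 ^ n →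
      ∀ s ∈ (S : Subgroup G), s ≠ 1 → n ≤ Module.finrank (ZMod 2) ↥(LinearMap.range (ρ s - 1)) := by
  haveI : Fact (Nat.Prime 2) := ⟨Nat.prime_two⟩
  have hone := SEB.oneClass_of_mbar_eq_one hm
  have hS2 : 2 ∣ Nat.card (S : Subgroup G) :=
    S.dvd_card_of_dvd_card ((even_iff_two_dvd.1 hse.2.1).trans (Subgroup.card_subgroup_dvd_card H))
  -- a central involution of `S`
  obtain ⟨z, hz, hzS, hzc⟩ : ∃ z : G, orderOf z = 2 ∧ z ∈ (S : Subgroup G) ∧
      ∀ x ∈ (S : Subgroup G), x * z = z * x := by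
    haveI : Nontrivial (S : Subgroup G) := Finite.one_lt_card_iff_nontrivial.1
      (lt_of_lt_of_le one_lt_two (Nat.le_of_dvd Nat.card_pos hS2))
    haveI := S.2.center_nontrivial
    obtain ⟨k, hk0, hk⟩ := (S.2.to_subgroup (Subgroup.center (S : Subgroup G))).nontrivial_iff_card.1 inferInstance
    obtain ⟨⟨⟨z, hzS⟩, hzc⟩, hz⟩ := exists_prime_orderOf_dvd_card' (G := Subgroup.center (S : Subgroup G)) 2
      (hk.symm ▸ dvd_pow_self 2 hk0.ne')
    rw [Subgroup.orderOf_mk, Subgroup.orderOf_mk] at hz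
    exact ⟨z, hz, hzS, fun x hx => congrArg Subtype.val (Subgroup.mem_center_iff.1 hzc ⟨x, hx⟩)⟩
  have huniq : ∀ x ∈ (S : Subgroup G), orderOf x = 2 → x = z := fun x hx hx2 =>
    commute_eq hse hone hx2 hz (hzc x hx)
  constructor
  · intro k hk
    refine rankOne_bound ρ hρ S.2 hzS hz huniq (O := oddCore G) (Char.card_oddCore_odd G)
      (fun g _ => by rw [(Subgroup.normalizer_eq_top_iff (H := oddCore G)).2 inferInstance]; trivial) ?_ hk
    by_contra h
    push Not at h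
    have hiso : Cfsg.IsIsolatedInvolution z :=
      ⟨hz, fun _ hg => commute_eq hse hone (Fusion.SEPairs.conj_involution hz _) hz hg.symm⟩
    have hcent : ∀ g : G, Commute z g := fun g => by
      obtain ⟨s, hs, hcom⟩ := SEB.isolated_decomp hiso g
      have hcs : Commute z s := (mul_inv_eq_iff_eq_mul.1 (h s hs))
      simpa using hcs.inv_right.mul_right hcom
    obtain ⟨x, hx⟩ := Fusion.SEPairs.exists_fixed hse hz
    obtain ⟨y, hy⟩ := Fusion.SEPairs.exists_ne hse x
    obtain ⟨g, rfl⟩ := Fusion.SEPairs.exists_smul_eq' x y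
    exact hy (Fusion.SEPairs.fixed_unique hse hz (by rw [smul_smul, (hcent g).eq, ← smul_smul, hx]) hx)
  · intro n hn hcard s hs hs1
    have hle : n ≤ 1 := by
      refine (Nat.pow_le_pow_iff_right (by norm_num : 1 < 2)).1 ?_
      rw [← hcard, pow_one]
      refine le_trans ?_ (le_of_eq ((Nat.card_zpowers z).trans hz))
      refine Nat.le_of_dvd Nat.card_pos (Subgroup.card_dvd_of_le fun x hx => ?_)
      by_cases hx1 : x = 1
      · rw [hx1]; exact one_mem _
      · rw [huniq x hx.1 (orderOf_eq_prime (hn x hx) hx1)]; exact Subgroup.mem_zpowers z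
    refine hle.trans (Nat.one_le_iff_ne_zero.2 fun h => im_ne_bot ρ hρ hs1 (Submodule.finrank_eq_zero.1 h))

theorem several_class_case (hse : Cfsg.IsStronglyEmbedded H) (hsolH : Group.IsSolvable H)
    (hm : SEB.mbar ↥H ≠ 1) (S : Sylow 2 G) :
    (∀ k : ℕ, Nat.card ↥(S : Subgroup G) = 2 ^ k → 2 * k ≤ Module.finrank (ZMod 2) V) ∧
    ∀ n : ℕ, (∀ z ∈ (S : Subgroup G) ⊓ Subgroup.centralizer ((S : Subgroup G) : Set G), z ^ 2 = 1) →
      Nat.card ↥((S : Subgroup G) ⊓ Subgroup.centralizer ((S : Subgroup G) : Set G)) = 2 ^ n →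
      ∀ s ∈ (S : Subgroup G), s ≠ 1 → n ≤ Module.finrank (ZMod 2) ↥(LinearMap.range (ρ s - 1)) := by
  haveI : Fact (Nat.Prime 2) := ⟨Nat.prime_two⟩
  obtain ⟨G', _, _, π, hπ, hker, H', t, Q, -, hse', hsol', hc, hQ⟩ := exists_quot hse hsolH hm
  obtain ⟨w, -, hw, -⟩ := Fusion.SEPairs.exists_fixed_involution hse
  set d := Module.finrank (ZMod 2) (im ρ w)
  have hd : ∀ x : G, orderOf x = 2 → Module.finrank (ZMod 2) (im ρ x) = d := fun x hx => by
    obtain ⟨g, rfl⟩ := isConj_iff.1 (Fusion.SEPairs.involutions_conj hse hw hx)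
    exact finrank_conj ρ g w
  -- the image of `S`
  obtain ⟨P, hP⟩ := Lie.R1.sylow_le hc.hS
  have hQP : Q = (P : Subgroup G') := P.3 hQ hP
  set S' : Sylow 2 G' := S.mapSurjective hπ
  have hinj : ∀ x ∈ (S : Subgroup G), π x = 1 → x = 1 := fun x hx h => by
    obtain ⟨k, hk⟩ := S.2 ⟨x, hx⟩
    have h1 : orderOf x ∣ 2 ^ k := orderOf_dvd_of_pow_eq_one (congrArg Subtype.val hk)
    have h2 : Odd (orderOf x) := hker.of_dvd_nat (Subgroup.orderOf_dvd_natCard _ (show x ∈ π.ker from h))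
    exact orderOf_eq_one_iff.1 (Nat.dvd_one.1 (((Nat.coprime_two_right.2 h2).pow_right k).dvd_of_dvd_mul_left
      (by rwa [mul_one])))
  constructor
  · intro k hk
    refine two_mul_k_le ρ hd hπ hker hse' hsol' hc hρ ?_
    rw [hQP, ← hk, P.card_eq_multiplicity, ← S'.card_eq_multiplicity]
    refine (Nat.card_congr (Equiv.ofBijective (π.subgroupMap (S : Subgroup G))
      ⟨fun x y h => Subtype.ext ?_, π.subgroupMap_surjective _⟩)).symm
    refine inv_mul_eq_one.1 (hinj _ (mul_mem (inv_mem x.2) y.2) ?_)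
    rw [map_mul, map_inv, show π x = π y from congrArg Subtype.val h, inv_mul_cancel]
  · intro n hn hcard s hs hs1
    obtain ⟨f, -, hf⟩ := hc.exists_f
    have hnf : n ≤ f := by
      obtain ⟨g, hg⟩ := MulAction.exists_smul_eq G' S' P
      refine (Nat.pow_le_pow_iff_right (by norm_num : 1 < 2)).1 ?_
      rw [← hcard, ← hf]
      have hmem : ∀ z ∈ (S : Subgroup G) ⊓ Subgroup.centralizer ((S : Subgroup G) : Set G),
          g * π z * g⁻¹ ∈ zg G' (QuotientGroup.mk 1 : G' ⧸ H') := fun z hz => by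
        refine hc.mem_zg_of_sq (hc.hS.le (hQP.ge ?_)) (by
          rw [show g * π z * g⁻¹ * (g * π z * g⁻¹) = g * (π z * π z) * g⁻¹ by group, ← map_mul, ← pow_two,
            hn z hz, map_one, mul_one, mul_inv_cancel])
        rw [← hg, Sylow.coe_subgroup_smul]
        exact ⟨π z, ⟨z, hz.1, rfl⟩, rfl⟩
      refine Nat.card_le_card_of_injective
        (fun z : ↥((S : Subgroup G) ⊓ Subgroup.centralizer ((S : Subgroup G) : Set G)) =>
          (⟨g * π z * g⁻¹, hmem z z.2⟩ : zg G' (QuotientGroup.mk 1 : G' ⧸ H')))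
        fun x y h => Subtype.ext ?_
      have h1 : π x = π y := mul_left_cancel (mul_right_cancel (congrArg Subtype.val h))
      exact inv_mul_eq_one.1 (hinj _ (mul_mem (inv_mem x.2.1) y.2.1) (by rw [map_mul, map_inv, h1, inv_mul_cancel]))
    have h2 : 2 ∣ orderOf s := by
      obtain ⟨k, hk⟩ := S.2 ⟨s, hs⟩
      have h1 : orderOf s ∣ 2 ^ k := orderOf_dvd_of_pow_eq_one (congrArg Subtype.val hk)
      obtain ⟨i, -, hi⟩ := (Nat.dvd_prime_pow Nat.prime_two).1 h1
      rcases Nat.eq_zero_or_pos i with rfl | hi0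
      · exact absurd (orderOf_eq_one_iff.1 (by rw [hi, pow_zero])) hs1
      · exact hi ▸ dvd_pow_self 2 hi0.ne'
    have hu := orderOf_pow_orderOf_div (orderOf_pos s).ne' h2
    refine hnf.trans ((zg_exponent_le ρ hd hπ hker hse' hsol' hc hρ hf).trans ?_)
    rw [← hd _ hu]
    exact Submodule.finrank_mono (im_pow_le ρ s _)

/-- S3841. -/
theorem main_of_sol (hsol : ∀ (X : Type u) [Group X] [Finite X], SEB.Sol X)
    (hse : Cfsg.IsStronglyEmbedded H) (S : Sylow 2 G) :
    (∀ k : ℕ, Nat.card ↥(S : Subgroup G) = 2 ^ k → 2 * k ≤ Module.finrank (ZMod 2) V) ∧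
    ∀ n : ℕ, (∀ z ∈ (S : Subgroup G) ⊓ Subgroup.centralizer ((S : Subgroup G) : Set G), z ^ 2 = 1) →
      Nat.card ↥((S : Subgroup G) ⊓ Subgroup.centralizer ((S : Subgroup G) : Set G)) = 2 ^ n →
      ∀ s ∈ (S : Subgroup G), s ≠ 1 → n ≤ Module.finrank (ZMod 2) ↥(LinearMap.range (ρ s - 1)) := by
  by_cases hm : SEB.mbar ↥H = 1
  · exact one_class_case ρ hρ hse hm S
  · exact several_class_case ρ hρ hse (hsol G H hse hm) hm S

end Cfsg.Agent.Bender.ModBound
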