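import Cfsg.Agent.Lib.Bender.SolStructure

/-!
# The quotient by the core of a strongly embedded subgroup, and lifting from it
-/

set_option autoImplicit false
set_option linter.style.haveILetI false
set_option linter.unusedSectionVars false

namespace Cfsg.Agent.Bender.ModBound

open Cfsg Cfsg.Agent Subgroup

universe u

variable {G G' : Type u} [Group G] [Finite G] [Group G'] [Finite G']

/-- An involution lifts along a surjection with kernel of odd order. -/
theorem lift_invol {π : G →* G'} (hπ : Function.Surjective π) (hker : Odd (Nat.card π.ker)) {y : G'}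
    (hy : orderOf y = 2) : ∃ x : G, orderOf x = 2 ∧ π x = y := by
  obtain ⟨x, rfl⟩ := hπ y
  obtain ⟨k, hk⟩ := hker
  have hyy : π x * π x = 1 := Fusion.SEPairs.sq_one hy
  have hfc : π (x ^ (2 * k + 1)) = π x := by
    rw [map_pow, pow_succ, pow_mul, pow_two, hyy, one_pow, one_mul]
  refine ⟨x ^ (2 * k + 1), orderOf_eq_prime ?_ (fun e => ?_), hfc⟩
  · have hx2 : x * x ∈ π.ker := by rw [MonoidHom.mem_ker, map_mul, hyy]
    rw [← pow_mul, mul_comm, pow_mul, pow_two, ← hk]
    exact orderOf_dvd_iff_pow_eq_one.1 (Subgroup.orderOf_dvd_natCard π.ker hx2)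
  · rw [e, map_one] at hfc
    exact SEB.ne_one_of_invol hy hfc.symm

/-- A power of a preimage has the order of the image. -/
theorem lift_order {π : G →* G'} {y : G} {r : ℕ} (hy : orderOf (π y) = r) :
    ∃ m : ℕ, orderOf (y ^ m) = r :=
  ⟨_, orderOf_pow_orderOf_div (orderOf_pos y).ne' (hy ▸ orderOf_map_dvd π y)⟩

/-- The quotient by the core, as a rank one set-up. -/
theorem exists_quot {H : Subgroup G} (hse : Cfsg.IsStronglyEmbedded H) (hsol : Group.IsSolvable H)
    (hm : SEB.mbar ↥H ≠ 1) :
    ∃ (G' : Type u) (_ : Group G') (_ : Finite G') (π : G →* G'), Function.Surjective π ∧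
      Odd (Nat.card π.ker) ∧ ∃ (H' : Subgroup G') (t : G') (Q : Subgroup G'), H' = H.map π ∧
        Cfsg.IsStronglyEmbedded H' ∧ Group.IsSolvable H' ∧
        Lie.R1C.Ctx G' (G' ⧸ H') (QuotientGroup.mk 1) t Q ∧ IsPGroup 2 Q := by
  set N := H.normalCore with hN
  set π := QuotientGroup.mk' N with hπ
  have hNodd : Odd (Nat.card N) := SEB.normalCore_odd hse
  have hker : π.ker = N := QuotientGroup.ker_mk' N
  have hcomap : (H.map π).comap π = H := by
    rw [Subgroup.comap_map_eq, hker, sup_eq_left.2 H.normalCore_le]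
  have hse' := SEB.se_map_odd hse N H.normalCore_le hNodd
  haveI := hsol
  have hsol' : Group.IsSolvable ↥(H.map π) :=
    Group.isSolvable_of_surjective (f := π.subgroupMap H) (π.subgroupMap_surjective H)
  have hm' : SEB.mbar ↥(H.map π) ≠ 1 := by
    refine fun h => hm (Eq.trans (SEB.mbar_of_surjective (π.subgroupMap H) (π.subgroupMap_surjective H) ?_) h)
    refine hNodd.of_dvd_nat ?_
    rw [← Nat.card_congr ((π.subgroupMap H).ker.equivMapOfInjective H.subtype H.subtype_injective).symm.toEquiv]
    refine Subgroup.card_dvd_of_le ?_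
    rintro _ ⟨x, hx, rfl⟩
    rw [← hker]
    exact congrArg Subtype.val (MonoidHom.mem_ker.1 hx)
  have hcore' : (H.map π).normalCore = ⊥ := by
    haveI := Subgroup.normalCore_normal (H.map π)
    have h2 : (H.map π).normalCore.comap π ≤ N := Subgroup.normal_le_normalCore.2
      ((Subgroup.comap_mono (Subgroup.normalCore_le (H.map π))).trans hcomap.le)
    refine eq_bot_iff.2 fun y hy => ?_
    obtain ⟨g, rfl⟩ := QuotientGroup.mk'_surjective N y
    exact mem_bot.2 ((QuotientGroup.eq_one_iff g).2 (h2 hy))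
  obtain ⟨a, hca⟩ := Fusion.SEPairs.exists_ne hse' (QuotientGroup.mk 1 : (G ⧸ N) ⧸ H.map π)
  obtain ⟨t, Q, hc, hQ⟩ := SEB.ctx_of_solvable hse' hsol' hm' hcore' hca
  exact ⟨G ⧸ N, inferInstance, inferInstance, π, QuotientGroup.mk'_surjective N, hker.symm ▸ hNodd,
    H.map π, t, Q, rfl, hse', hsol', hc, hQ⟩

end Cfsg.Agent.Bender.ModBound
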