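import Cfsg.Agent.Lib.Lie.SplitRankOne.Semireg
import Cfsg.Agent.Lib.Small.SL2.Classes
import Cfsg.Agent.S2904

/-!
# Orders in a rank one set-up
-/

set_option autoImplicit false
set_option linter.style.haveILetI false
set_option linter.unusedSectionVars false

namespace Cfsg.Agent.Bender.ModBound

open Cfsg MulAction
open Cfsg.Agent.Lie.R1C

universe u v

/-- A primitive prime divisor of `2 ^ (2 * e) - 1`. -/
theorem exists_ppd {e : ℕ} (he : 2 ≤ e) (he3 : e ≠ 3) :
    ∃ r : ℕ, r.Prime ∧ Odd r ∧ r ∣ 2 ^ e + 1 ∧ ¬ r ∣ 2 * (2 ^ e - 1) ∧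
      ∀ j : ℕ, 0 < j → j < 2 * e → ¬ r ∣ 2 ^ j - 1 := by
  obtain ⟨r, hr, hd, hp⟩ := Cfsg.Agent.S2904.result 2 (2 * e) (by norm_num) (by omega) (by omega) (by omega)
  have hd' : r ∣ (2 ^ e + 1) * (2 ^ e - 1) := by
    rwa [← Nat.sq_sub_sq, one_pow, ← pow_mul, mul_comm e 2]
  have h2 : r ≠ 2 := fun h => by
    have h1 : 2 ∣ 2 ^ (2 * e) := dvd_pow_self 2 (by omega)
    have := Nat.one_le_two_pow (n := 2 * e)
    rw [h] at hd
    omega
  have hn := hp e (by omega) (by omega)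
  refine ⟨r, hr, hr.odd_of_ne_two h2, (hr.dvd_mul.1 hd').resolve_right hn, fun h => ?_, hp⟩
  rcases hr.dvd_mul.1 h with h | h
  · exact h2 ((Nat.prime_dvd_prime_iff_eq hr Nat.prime_two).1 h)
  · exact hn h

variable {G : Type u} {Ω : Type v} [Group G] [MulAction G Ω] [Finite G] {a : Ω} {t : G} {Q : Subgroup G}
  (hc : Ctx G Ω a t Q)

include hc

/-- The torus is semiregular on `Q`. -/
theorem card_kg_dvd : Nat.card (kg G a t) ∣ Nat.card Q - 1 := by
  let X := {q : Q // q ≠ 1}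
  letI : MulAction (kg G a t) X :=
    { smul := fun k q => ⟨⟨(k : G) * q.1 * (k : G)⁻¹, Lie.R1.conj_Q hc.hS (hc.kg_fix k.2) q.1.2⟩,
        fun e => q.2 (Subtype.ext (conj_eq_one_iff.1 (congrArg Subtype.val e)))⟩
      one_smul := fun q => Subtype.ext (Subtype.ext (by
        show (1 : G) * q.1 * (1 : G)⁻¹ = q.1
        group))
      mul_smul := fun k l q => Subtype.ext (Subtype.ext (by
        show (k : G) * l * q.1 * ((k : G) * l)⁻¹ = k * (l * q.1 * (l : G)⁻¹) * (k : G)⁻¹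
        group)) }
  have hstab : ∀ q : X, stabilizer (kg G a t) q = ⊥ := fun q => by
    refine (Subgroup.eq_bot_iff_forall _).2 fun k hk => by_contra fun hk1 => q.2 (Subtype.ext ?_)
    have h : (k : G) * q.1 * (k : G)⁻¹ = q.1 := congrArg (fun w : X => ((w.1 : Q) : G)) hk
    exact hc.kg_fpf k.2 (fun e => hk1 (Subtype.ext e)) q.1.2 (mul_inv_eq_iff_eq_mul.1 h)
  have hX : Nat.card X = Nat.card Q - 1 := by
    show Nat.card ↥({1}ᶜ : Set Q) = _
    rw [Nat.card_coe_set_eq, Set.ncard_compl, Set.ncard_singleton]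
  rw [← hX, Nat.card_congr (selfEquivOrbitsQuotientProd hstab), Nat.card_prod]
  exact dvd_mul_left _ _

/-- The degree over two of `Z` divides that of `Q`. -/
theorem dvd_exponent {f e : ℕ} (hf : Nat.card (zg G a) = 2 ^ f) (he : Nat.card Q = 2 ^ e) :
    f ∣ e ∧ f ≤ e ∧ 2 ≤ f := by
  obtain ⟨f', hf2, hf'⟩ := hc.exists_f
  obtain rfl : f' = f := Nat.pow_right_injective le_rfl (hf'.symm.trans hf)
  have hle : f' ≤ e := (Nat.pow_le_pow_iff_right (by norm_num)).1
    (hf ▸ he ▸ Nat.le_of_dvd Nat.card_pos (Subgroup.card_dvd_of_le hc.zg_le_Q))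
  refine ⟨?_, hle, hf2⟩
  have h := card_kg_dvd hc
  rw [he, show Nat.card (kg G a t) = 2 ^ f' - 1 by have := hc.card_kg; omega] at h
  have h1 := Nat.gcd_eq_left h
  rw [Nat.pow_sub_one_gcd_pow_sub_one] at h1
  have h2 : 2 ^ f'.gcd e = 2 ^ f' := by
    have := Nat.one_le_two_pow (n := f'.gcd e)
    have := Nat.one_le_two_pow (n := f')
    omega
  exact Nat.gcd_eq_left_iff_dvd.1 (Nat.pow_right_injective le_rfl h2)

/-- The order of the group is divisible by that of the orbit. -/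
theorem succ_dvd_card : Nat.card Q + 1 ∣ Nat.card G :=
  Lie.R1.card_G hc.hS ▸ dvd_mul_left _ _

/-- When `Q` consists of involutions, elements of the non-split torus are products of two involutions. -/
theorem exists_product {e r : ℕ} (hf : Nat.card (zg G a) = 2 ^ e) (he : Nat.card Q = 2 ^ e) (hr : r.Prime)
    (hr1 : r ∣ 2 ^ e + 1) (hr2 : ¬ r ∣ 2 * (2 ^ e - 1)) :
    ∃ x y : G, orderOf x = 2 ∧ orderOf y = 2 ∧ orderOf (x * y) = r := by
  classical
  haveI := Fact.mk hr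
  obtain ⟨L, _, _, f, zp, kp, hf2, hLf, hzf, hL⟩ := hc.exists_coord
  obtain rfl : f = e := Nat.pow_right_injective le_rfl (hzf.symm.trans hf)
  haveI := hL.charTwo
  have hQZ : zg G a = Q := Subgroup.eq_of_le_of_card_ge hc.zg_le_Q (le_of_eq (he.trans hf.symm))
  obtain ⟨p, hp, hpe⟩ := hL.pair
  rw [hL.pair_eq hc hp hpe (hQZ ▸ hp), inv_eq_of_mul_eq_one_left (hc.zg_sq (hL.zp_mem hc 1))] at hpe
  have hM : MCtx G a t Q L zp kp := ⟨hc, hL, hpe⟩
  have hdvd : r ∣ Nat.card (Matrix.SpecialLinearGroup (Fin 2) L) := by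
    rw [show Nat.card (Matrix.SpecialLinearGroup (Fin 2) L) =
      Fintype.card L * (Fintype.card L ^ 2 - 1) from Small.SL2C.card_SL2, hLf]
    refine dvd_mul_of_dvd_right ?_ _
    rw [show (1 : ℕ) = 1 ^ 2 from (one_pow 2).symm, Nat.sq_sub_sq]
    exact dvd_mul_of_dvd_left hr1 _
  obtain ⟨A, hA⟩ := exists_prime_orderOf_dvd_card' r hdvd
  have hne : ∀ s : L, (A.1 0 0 + s) * (A.1 1 1 + s) + A.1 0 1 * A.1 1 0 ≠ 0 := by
    intro s hs
    obtain ⟨C, hC⟩ := exists_triangular A hs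
    set B := C * A * C⁻¹ with hB
    have hBo : orderOf B = r := by
      rw [hB, ← hA]
      exact orderOf_injective (MulAut.conj C).toMonoidHom (MulAut.conj C).injective A
    have hpow : ∀ n : ℕ, (B ^ n).1 1 0 = 0 ∧ (B ^ n).1 0 0 = B.1 0 0 ^ n := by
      intro n
      induction n with
      | zero => simp
      | succ n ih =>
        rw [pow_succ, Matrix.SpecialLinearGroup.coe_mul, Matrix.mul_apply, Matrix.mul_apply, Fin.sum_univ_two,
          Fin.sum_univ_two, hC, ih.1, ih.2, pow_succ]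
        simp
    have hb : B.1 0 0 ≠ 0 := fun h0 => by
      have := det_eq B
      rw [h0, hC, zero_mul, mul_zero, zero_add] at this
      exact zero_ne_one this
    obtain ⟨h10, h00⟩ := hpow (2 ^ f - 1)
    rw [show B.1 0 0 ^ (2 ^ f - 1) = 1 from hLf ▸ FiniteField.pow_card_sub_one_eq_one _ hb] at h00
    have h11 : (B ^ (2 ^ f - 1)).1 1 1 = 1 := by
      have := det_eq (B ^ (2 ^ f - 1))
      rwa [h00, h10, one_mul, mul_zero, add_zero] at this
    refine hr2 (hBo ▸ orderOf_dvd_of_pow_eq_one ?_)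
    rw [mul_comm, pow_mul, pow_two]
    refine Subtype.ext ?_
    rw [Matrix.SpecialLinearGroup.coe_mul, sq_eq, h00, h11, CharTwo.add_self_eq_zero, zero_smul, zero_add]
    rfl
  obtain ⟨U, hU1, hU2, hUA, hUA1, -⟩ := exists_two_inv A hne
  have ho : ∀ W : Matrix.SpecialLinearGroup (Fin 2) L, W ≠ 1 → W * W = 1 → orderOf (hM.mg W) = 2 :=
    fun W h1 h2 => (orderOf_injective hM.mg hM.mg_injective W).trans
      (orderOf_eq_prime (by rw [pow_two]; exact h2) h1)
  refine ⟨hM.mg U, hM.mg (U * A), ho U hU1 hU2, ho _ hUA1 hUA, ?_⟩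
  rw [← map_mul, ← mul_assoc, hU2, one_mul, orderOf_injective hM.mg hM.mg_injective, hA]

/-- An element of the torus of full order as a product of two involutions. -/
theorem exists_product_seven (hf : Nat.card (zg G a) = 2 ^ 3) :
    ∃ x y : G, orderOf x = 2 ∧ orderOf y = 2 ∧ orderOf (x * y) = 7 := by
  haveI := Fact.mk (show Nat.Prime 7 by norm_num)
  have h7 : Nat.card (kg G a t) = 7 := by have := hc.card_kg; omega
  obtain ⟨⟨k, hk⟩, hko⟩ := exists_prime_orderOf_dvd_card' (G := kg G a t) 7 (dvd_of_eq h7.symm)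
  rw [Subgroup.orderOf_mk] at hko
  have ht : t * t = 1 := hc.hS.mul_self
  refine ⟨t, t * k, orderOf_eq_prime (by rw [pow_two, ht]) hc.hS.ne_one,
    orderOf_eq_prime ?_ (fun e => ?_), by rw [← mul_assoc, ht, one_mul, hko]⟩
  · rw [pow_two, show t * k * (t * k) = (t * k * t) * k by group, hc.kg_inv hk, inv_mul_cancel]
  · have hkt : t = k⁻¹ := eq_inv_of_mul_eq_one_left e
    exact hc.hS.not_mem (hkt ▸ inv_mem (Subgroup.mem_inf.1 (hc.kg_le hk)).1)

end Cfsg.Agent.Bender.ModBound
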