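import Cfsg.Agent.Lib.Bender.ModuleBound.Quot
import Cfsg.Agent.Lib.Bender.ModuleBound.Torus
import Cfsg.Agent.Lib.Bender.ModuleBound.Linear

/-!
# The image of an involution is at least as large as the centre of a Sylow subgroup
-/

set_option autoImplicit false
set_option linter.style.haveILetI false
set_option linter.unusedSectionVars false

namespace Cfsg.Agent.Bender.ModBound

open Cfsg Cfsg.Agent MulAction
open Cfsg.Agent.Lie.R1C (Ctx zg kg)

universe u v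

variable {G : Type u} [Group G] [Finite G] {V : Type v} [AddCommGroup V] [Module (ZMod 2) V]
  [Module.Finite (ZMod 2) V] (ρ : Representation (ZMod 2) G V) {d : ℕ}
  (hd : ∀ x : G, orderOf x = 2 → Module.finrank (ZMod 2) (im ρ x) = d)

include hd

theorem pow_pair_le {a b : G} (ha : orderOf a = 2) (hb : orderOf b = 2) (m : ℕ) :
    Module.finrank (ZMod 2) (im ρ ((a * b) ^ m)) ≤ 2 * d := by
  classical
  have h := finrank_im_le_of_closure ρ (T := {a, b}) (n := d) (g := (a * b) ^ m) (fun s hs => by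
    rcases Finset.mem_insert.1 hs with rfl | hs
    · exact (hd _ ha).le
    · rw [Finset.mem_singleton.1 hs]; exact (hd _ hb).le)
    (pow_mem (mul_mem (Subgroup.subset_closure (by simp)) (Subgroup.subset_closure (by simp))) m)
  exact h.trans (Nat.mul_le_mul_right d Finset.card_le_two)

variable {G' : Type u} [Group G'] [Finite G'] {π : G →* G'} (hπ : Function.Surjective π)
  (hker : Odd (Nat.card π.ker)) {H' : Subgroup G'} {t : G'} {Q : Subgroup G'}
  (hse : Cfsg.IsStronglyEmbedded H') (hsol : Group.IsSolvable H') (hc : Ctx G' (G' ⧸ H') (QuotientGroup.mk 1) t Q)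

include hπ hker hse hsol hc

theorem zg_exponent_le (hρ : Function.Injective ρ) {f : ℕ}
    (hf : Nat.card (zg G' (QuotientGroup.mk 1 : G' ⧸ H')) = 2 ^ f) : f ≤ d := by
  classical
  set c : G' ⧸ H' := QuotientGroup.mk 1
  obtain ⟨k₀, hk₀, -⟩ := hc.exists_gen
  have hk₀m : k₀ ∈ kg G' c t := hk₀ ▸ Subgroup.mem_zpowers k₀
  obtain ⟨z₀, z₁, hz₀, hz₁, hz01⟩ := Lie.R1.two_inv hc.hS hc.h2
  have hto : orderOf t = 2 := orderOf_eq_prime (by rw [pow_two]; exact hc.hS.mul_self) hc.hS.ne_one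
  have hzo : orderOf z₀ = 2 := orderOf_eq_prime (by rw [pow_two]; exact hz₀.2.2) hz₀.2.1
  have hbo : orderOf (t * k₀) = 2 := orderOf_eq_prime
    (by rw [pow_two, show t * k₀ * (t * k₀) = (t * k₀ * t) * k₀ by group, hc.kg_inv hk₀m, inv_mul_cancel])
    fun e => hc.hS.not_mem
      ((eq_inv_of_mul_eq_one_left e) ▸ inv_mem (Subgroup.mem_inf.1 (hc.kg_le hk₀m)).1)
  obtain ⟨T, hT, hTt⟩ := lift_invol hπ hker hto
  obtain ⟨B, hB, hBb⟩ := lift_invol hπ hker hbo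
  obtain ⟨Z, hZ, hZz⟩ := lift_invol hπ hker hzo
  set M := Subgroup.closure (({T, B, Z} : Finset G) : Set G)
  set M' := M.map π
  have htM : t ∈ M' := ⟨T, Subgroup.subset_closure (by simp), hTt⟩
  have hkM : kg G' c t ≤ M' := by
    rw [hk₀, Subgroup.zpowers_le, show k₀ = t * (t * k₀) by rw [← mul_assoc, hc.hS.mul_self, one_mul]]
    exact mul_mem htM ⟨B, Subgroup.subset_closure (by simp), hBb⟩
  have hzM : zg G' c ≤ M' := fun z hz => by
    by_cases h : z = 1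
    · rw [h]; exact one_mem _
    obtain ⟨k, hk, rfl⟩ := hc.kg_trans (hc.mem_zg.2 (Or.inr hz₀)) hz₀.2.1 hz h
    exact mul_mem (mul_mem (hkM hk) ⟨Z, Subgroup.subset_closure (by simp), hZz⟩) (inv_mem (hkM hk))
  have hz₀M : z₀ ∈ M' := hzM (hc.mem_zg.2 (Or.inr hz₀))
  have hse1 := SEB.se_sub hse hzo hz₀.1 hz₀M ⟨t, htM, hc.hS.not_mem⟩
  have hsol1 := SEB.sub_solvable hse hsol c M'
  have hm1 : SEB.mbar ↥((SEB.St c).subgroupOf M') ≠ 1 := fun hm => by
    have hz₁M : z₁ ∈ M' := hzM (hc.mem_zg.2 (Or.inr hz₁))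
    have e := commute_eq hse1 (SEB.oneClass_of_mbar_eq_one hm)
      (s := (⟨z₀, hz₀M⟩ : M')) (t := ⟨z₁, hz₁M⟩) (by rw [Subgroup.orderOf_mk]; exact hzo)
      (by rw [Subgroup.orderOf_mk]; exact orderOf_eq_prime (by rw [pow_two]; exact hz₁.2.2) hz₁.2.1)
      (Subtype.ext (hc.zg_central (hc.mem_zg.2 (Or.inr hz₀)) (hc.zg_le_Q (hc.mem_zg.2 (Or.inr hz₁)))))
    exact hz01 (congrArg Subtype.val e)
  obtain ⟨G₂, _, _, σ, hσ, hσker, H₂, t₂, Q₂, hH₂, -, -, hc₂, hQ₂⟩ := exists_quot hse1 hsol1 hm1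
  -- the lifting of involutions
  have hlift : ∀ x : G₂, orderOf x = 2 → ∃ (a : G) (x' : M'), orderOf a = 2 ∧ π a = x' ∧ σ x' = x := by
    intro x hx
    obtain ⟨x', hx', hσx⟩ := lift_invol hσ hσker hx
    obtain ⟨a, ha, hax⟩ := lift_invol hπ hker (y := (x' : G')) (by rw [Subgroup.orderOf_coe]; exact hx')
    exact ⟨a, x', ha, hax, hσx⟩
  obtain ⟨f₂, hf₂⟩ : ∃ f₂, Nat.card (zg G₂ (QuotientGroup.mk 1 : G₂ ⧸ H₂)) = 2 ^ f₂ := by
    obtain ⟨f₂, -, h⟩ := hc₂.exists_f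
    exact ⟨f₂, h⟩
  haveI : Fact (Nat.Prime 2) := ⟨Nat.prime_two⟩
  obtain ⟨e, he⟩ := IsPGroup.iff_card.1 hQ₂
  obtain ⟨hdvd, hle, hf2⟩ := dvd_exponent hc₂ hf₂ he
  have hff : f ≤ f₂ := by
    have hmem : ∀ z : zg G' c, σ ⟨z, hzM z.2⟩ ∈ zg G₂ (QuotientGroup.mk 1 : G₂ ⧸ H₂) := fun z => by
      refine hc₂.mem_zg_of_sq ?_ (by
        rw [← map_mul, show (⟨z, hzM z.2⟩ : M') * ⟨z, hzM z.2⟩ = 1 from Subtype.ext (hc.zg_sq z.2), map_one])
      refine (MulAction.mem_stabilizer_iff (G := G₂)).1 ?_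
      rw [MulAction.stabilizer_quotient, hH₂]
      exact ⟨_, hc.hS.le (hc.zg_le_Q z.2), rfl⟩
    refine (Nat.pow_le_pow_iff_right (by norm_num : 1 < 2)).1 ?_
    rw [← hf, ← hf₂]
    refine Nat.card_le_card_of_injective
      (fun z : zg G' c => (⟨σ ⟨z, hzM z.2⟩, hmem z⟩ : zg G₂ (QuotientGroup.mk 1 : G₂ ⧸ H₂))) fun z w h => ?_
    have h1 : σ ⟨z, hzM z.2⟩ = σ ⟨w, hzM w.2⟩ := congrArg Subtype.val h
    have hx : (⟨z, hzM z.2⟩ : M')⁻¹ * ⟨w, hzM w.2⟩ ∈ σ.ker := by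
      rw [MonoidHom.mem_ker, map_mul, map_inv, h1, inv_mul_cancel]
    by_contra hne
    have hd2 : orderOf ((⟨z, hzM z.2⟩ : M')⁻¹ * ⟨w, hzM w.2⟩) = 2 := orderOf_eq_prime
      (by rw [pow_two]; exact Subtype.ext (hc.zg_sq (mul_mem (inv_mem z.2) w.2)))
      fun e => hne (Subtype.ext (congrArg Subtype.val (inv_mul_eq_one.1 e) :))
    exact hσker.not_two_dvd_nat (hd2 ▸ Subgroup.orderOf_dvd_natCard _ hx)
  by_cases hee : e = f₂
  · obtain ⟨r, x, y, hx, hy, hxy, hr⟩ : ∃ (r : ℕ) (x y : G₂), orderOf x = 2 ∧ orderOf y = 2 ∧ orderOf (x * y) = r ∧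
        ((e = 3 ∧ r = 7) ∨ (r.Prime ∧ Odd r ∧ ∀ j : ℕ, 0 < j → j < 2 * e → ¬ r ∣ 2 ^ j - 1)) := by
      by_cases he3 : e = 3
      · obtain ⟨x, y, h1, h2, h3⟩ := exists_product_seven hc₂ (hf₂.trans (by rw [← hee, he3]))
        exact ⟨7, x, y, h1, h2, h3, Or.inl ⟨he3, rfl⟩⟩
      · obtain ⟨r, hr, hro, hr1, hr2, hr3⟩ := exists_ppd (hee ▸ hf2) he3
        obtain ⟨x, y, h1, h2, h3⟩ := exists_product hc₂ (hee.symm ▸ hf₂) he hr hr1 hr2
        exact ⟨r, x, y, h1, h2, h3, Or.inr ⟨hr, hro, hr3⟩⟩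
    obtain ⟨a, x', ha, hax, rfl⟩ := hlift x hx
    obtain ⟨b, y', hb, hby, rfl⟩ := hlift y hy
    have hr' : r ∣ orderOf (a * b) := by
      refine hxy ▸ ((map_mul σ x' y').symm ▸ orderOf_map_dvd σ (x' * y')).trans ?_
      rw [← Subgroup.orderOf_coe, Subgroup.coe_mul, ← hax, ← hby, ← map_mul]
      exact orderOf_map_dvd π _
    have hw : orderOf ((a * b) ^ (orderOf (a * b) / r)) = r := orderOf_pow_orderOf_div (orderOf_pos _).ne' hr'
    have hb2 := pow_pair_le ρ hd ha hb (orderOf (a * b) / r)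
    rcases hr with ⟨he3, rfl⟩ | ⟨hr, hro, hr3⟩
    · have h5 := five_le_finrank ρ hρ hw (w := a) (Fusion.SEPairs.sq_one ha) (by
        rw [← conj_pow, ← inv_pow]
        congr 1
        rw [← mul_assoc, Fusion.SEPairs.sq_one ha, one_mul, _root_.mul_inv_rev, Fusion.SEPairs.inv_self hb])
      omega
    · have := le_finrank ρ hρ hr hro hw hr3
      omega
  · obtain ⟨j, rfl⟩ := hdvd
    have hj : 2 ≤ j := by
      by_contra hj
      interval_cases j <;> simp at hle hee ⊢ <;> omega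
    have h4 : 4 ≤ f₂ * j := le_trans (by norm_num) (Nat.mul_le_mul hf2 hj)
    obtain ⟨r, hr, hro, hr1, -, hr3⟩ := exists_ppd (e := f₂ * j) (by omega) (by omega)
    haveI := Fact.mk hr
    have hrM : r ∣ Nat.card M := by
      refine (hr1.trans ?_).trans ((Subgroup.card_dvd_of_surjective σ hσ).trans (Subgroup.card_map_dvd M π))
      rw [← he]
      exact succ_dvd_card hc₂
    obtain ⟨⟨w, hwM⟩, hw⟩ := exists_prime_orderOf_dvd_card' r hrM
    rw [Subgroup.orderOf_mk] at hw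
    have h1 := le_finrank ρ hρ hr hro hw hr3
    have h2 := (finrank_im_le_of_closure ρ (T := {T, B, Z}) (n := d) (g := w) (fun s hs => by
      simp only [Finset.mem_insert, Finset.mem_singleton] at hs
      rcases hs with rfl | rfl | rfl
      exacts [(hd _ hT).le, (hd _ hB).le, (hd _ hZ).le]) hwM).trans
      (Nat.mul_le_mul_right d Finset.card_le_three)
    have : f₂ * 2 ≤ f₂ * j := Nat.mul_le_mul_left _ hj
    omega

theorem two_mul_k_le (hρ : Function.Injective ρ) {k : ℕ} (hk : Nat.card Q = 2 ^ k) :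
    2 * k ≤ Module.finrank (ZMod 2) V := by
  obtain ⟨f, -, hf⟩ := hc.exists_f
  obtain ⟨hdvd, hle, hf2⟩ := dvd_exponent hc hf hk
  by_cases hk3 : k = 3
  · subst hk3
    obtain rfl : f = 3 := by
      rcases (Nat.dvd_prime (by norm_num)).1 hdvd with h | h <;> omega
    have hfd := zg_exponent_le ρ hd hπ hker hse hsol hc hρ hf
    obtain ⟨T, hT, -⟩ := lift_invol hπ hker
      (y := t) (orderOf_eq_prime (by rw [pow_two]; exact hc.hS.mul_self) hc.hS.ne_one)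
    have := two_mul_le ρ (Fusion.SEPairs.sq_one hT)
    rw [hd T hT] at this
    omega
  · obtain ⟨r, hr, hro, hr1, -, hr3⟩ := exists_ppd (e := k) (by omega) hk3
    haveI := Fact.mk hr
    obtain ⟨w, hw⟩ := exists_prime_orderOf_dvd_card' r
      (hr1.trans ((hk ▸ succ_dvd_card hc).trans (Subgroup.card_dvd_of_surjective π hπ)))
    exact (le_finrank ρ hρ hr hro hw hr3).trans (Submodule.finrank_le _)

end Cfsg.Agent.Bender.ModBound
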